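import Cfsg.Agent.LX.U42N

/-! The module `2 ⊗ 2 ⊗ 2` of `S₃ × S₃ × S₃` and the local model of a group with involution
centraliser `2^{1+8}.(S₃ × S₃ × S₃)`. -/

set_option autoImplicit false

universe u

namespace Cfsg.Lib.LX

open Subgroup Cfsg.Lib.Local Cfsg.Lib.Solv Module Cfsg.Lib.Spor Equiv
open scoped Pointwise commutatorElement

abbrev T3 := Perm (Fin 3) × Perm (Fin 3) × Perm (Fin 3)
abbrev W2 := ZMod 2 × ZMod 2
abbrev W4 := W2 × W2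
abbrev W8 := W4 × W4

section Ten
variable {X : Type*} [AddCommGroup X]

def ten (i : Fin 3) (u : X) : X × X := (if i = 1 then 0 else u, if i = 0 then 0 else u)
def act3 (g : Perm (Fin 3)) (v : X × X) : X × X := ten (g 0) v.1 + ten (g 1) v.2

theorem ten_add (i : Fin 3) (u v : X) : ten i (u + v) = ten i u + ten i v := by
  unfold ten; ext <;> dsimp only [Prod.fst_add, Prod.snd_add] <;> split_ifs <;> simp

theorem act3_add (g : Perm (Fin 3)) (u v : X × X) : act3 g (u + v) = act3 g u + act3 g v := by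
  simp only [act3, Prod.fst_add, Prod.snd_add, ten_add]; abel

theorem act3_map {Y : Type*} [AddCommGroup Y] (g : Perm (Fin 3)) (φ : X → Y)
    (h : ∀ a b, φ (a + b) = φ a + φ b) (v : X × X) :
    act3 g (φ v.1, φ v.2) = (φ (act3 g v).1, φ (act3 g v).2) := by
  have h0 : φ 0 = 0 := by simpa using h 0 0
  simp only [act3, ten, Prod.mk_add_mk, h, apply_ite φ, h0]

variable [Module (ZMod 2) X]

theorem act3_ten (g : Perm (Fin 3)) (i : Fin 3) (u : X) : act3 g (ten i u) = ten (g i) u := by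
  have k : ∀ g : Perm (Fin 3), (g 0 = 0 ∧ g 1 = 1 ∧ g 2 = 2) ∨ (g 0 = 0 ∧ g 1 = 2 ∧ g 2 = 1) ∨
      (g 0 = 1 ∧ g 1 = 0 ∧ g 2 = 2) ∨ (g 0 = 1 ∧ g 1 = 2 ∧ g 2 = 0) ∨
      (g 0 = 2 ∧ g 1 = 0 ∧ g 2 = 1) ∨ (g 0 = 2 ∧ g 1 = 1 ∧ g 2 = 0) := by decide
  fin_cases i <;> rcases k g with h | h | h | h | h | h <;> simp [act3, ten, h, add_self']

theorem act3_mul (g k : Perm (Fin 3)) (v : X × X) : act3 (g * k) v = act3 g (act3 k v) := by
  rw [act3, act3.eq_1 k, act3_add, act3_ten, act3_ten]; rfl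

end Ten

def ρ4 (g k : Perm (Fin 3)) (w : W4) : W4 := act3 g (act3 k w.1, act3 k w.2)
def ρ8 (p : T3) (v : W8) : W8 := act3 p.1 (ρ4 p.2.1 p.2.2 v.1, ρ4 p.2.1 p.2.2 v.2)
def om2 (u v : W2) : ZMod 2 := u.1 * v.2 + u.2 * v.1
def om4 (u v : W4) : ZMod 2 := om2 u.1 v.2 + om2 u.2 v.1
def b8 (u v : W8) : ZMod 2 := om4 u.1 v.2 + om4 u.2 v.1
def q8 (v : W8) : ZMod 2 := om4 v.1 v.2
def e8 : W8 := (((1, 0), 0), 0)
def τ3 : Perm (Fin 3) := swap 1 2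
def r3 : Perm (Fin 3) := swap 0 1 * swap 1 2

theorem ρ4_add (g k : Perm (Fin 3)) (u v : W4) : ρ4 g k (u + v) = ρ4 g k u + ρ4 g k v := by
  simp only [ρ4, Prod.fst_add, Prod.snd_add, act3_add k, ← act3_add g, Prod.mk_add_mk]

theorem ρ4_mul (g k g' k' : Perm (Fin 3)) (u : W4) :
    ρ4 (g * g') (k * k') u = ρ4 g k (ρ4 g' k' u) := by
  simp only [ρ4, act3_mul]
  rw [← act3_map g' (act3 k) (act3_add k)]

theorem ρ8_mul (p p' : T3) (v : W8) : ρ8 (p * p') v = ρ8 p (ρ8 p' v) := by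
  simp only [ρ8, Prod.fst_mul, Prod.snd_mul, act3_mul, ρ4_mul]
  rw [← act3_map p'.1 (ρ4 p.2.1 p.2.2) (ρ4_add _ _)]

theorem q8_add (u v : W8) : q8 (u + v) = q8 u + q8 v + b8 u v := by
  simp only [q8, b8, om4, om2, Prod.fst_add, Prod.snd_add]; ring

theorem b8_add (u v w : W8) : b8 (u + v) w = b8 u w + b8 v w := by
  simp only [b8, om4, om2, Prod.fst_add, Prod.snd_add]; ring

theorem act3_one {X : Type*} [AddCommGroup X] (v : X × X) : act3 1 v = v := by simp [act3, ten]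

theorem ρ8_one (v : W8) : ρ8 1 v = v := by simp [ρ8, ρ4, act3_one]

def rb (i j k : Bool) : T3 := (cond i r3 1, cond j r3 1, cond k r3 1)

theorem W8_ind {P : W8 → Prop} (h0 : P 0) (h : ∀ i j k v, P v → P (v + ρ8 (rb i j k) e8))
    (v : W8) : P v := by
  have s : ∀ (c : ZMod 2) i j k v, P v → P (v + c • ρ8 (rb i j k) e8) := fun c i j k v hv => by
    rcases z2_cases c with rfl | rfl
    · simpa using hv
    · simpa using h i j k v hv
  have e : ∀ v : W8, v = 0 + v.1.1.1 • ρ8 (rb false false false) e8 +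
      v.1.1.2 • ρ8 (rb false false true) e8 + v.1.2.1 • ρ8 (rb false true false) e8 +
      v.1.2.2 • ρ8 (rb false true true) e8 + v.2.1.1 • ρ8 (rb true false false) e8 +
      v.2.1.2 • ρ8 (rb true false true) e8 + v.2.2.1 • ρ8 (rb true true false) e8 +
      v.2.2.2 • ρ8 (rb true true true) e8 := by decide +kernel
  rw [e v]
  iterate 8 apply s
  exact h0

theorem s3_cases : ∀ g : Perm (Fin 3), g = 1 ∨ g = r3 ∨ g = r3 * r3 ∨ g = τ3 ∨ g = r3 * τ3 ∨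
    g = r3 * (r3 * τ3) := by decide

theorem T3_ind {P : T3 → Prop} (hm : ∀ p p', P p → P p' → P (p * p')) (a₁ : P (τ3, 1, 1))
    (a₂ : P (1, τ3, 1)) (a₃ : P (1, 1, τ3)) (b₁ : P (r3, 1, 1)) (b₂ : P (1, r3, 1))
    (b₃ : P (1, 1, r3)) (p : T3) : P p := by
  have k : ∀ f : Perm (Fin 3) → T3, (∀ a b, f (a * b) = f a * f b) → P (f τ3) → P (f r3) →
      ∀ g, P (f g) := fun f hf a b g => by
    have m : ∀ {x y}, P (f x) → P (f y) → P (f (x * y)) := fun hx hy => hf _ _ ▸ hm _ _ hx hy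
    rcases s3_cases g with rfl | rfl | rfl | rfl | rfl | rfl
    exacts [(by decide : τ3 * τ3 = 1) ▸ m a a, b, m b b, a, m b a, m b (m b a)]
  have e : p = (p.1, 1, 1) * ((1, p.2.1, 1) * (1, 1, p.2.2)) := by ext1 <;> simp
  rw [e]
  exact hm _ _ (k (fun g => (g, 1, 1)) (by simp) a₁ b₁ _)
    (hm _ _ (k (fun g => (1, g, 1)) (by simp) a₂ b₂ _) (k (fun g => (1, 1, g)) (by simp) a₃ b₃ _))

def bv (i j k : Bool) : T3 := (cond i τ3 1, cond j τ3 1, cond k τ3 1)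

set_option synthInstance.maxSize 2000 in
theorem bv_span : ∀ i₁ i₂ i₃ j₁ j₂ j₃ k₁ k₂ k₃ : Bool, bv i₁ i₂ i₃ ≠ 1 → bv j₁ j₂ j₃ ≠ 1 →
    bv k₁ k₂ k₃ ≠ 1 → bv i₁ i₂ i₃ * bv j₁ j₂ j₃ ≠ 1 → bv i₁ i₂ i₃ * bv k₁ k₂ k₃ ≠ 1 →
    bv j₁ j₂ j₃ * bv k₁ k₂ k₃ ≠ 1 → bv i₁ i₂ i₃ * bv j₁ j₂ j₃ * bv k₁ k₂ k₃ ≠ 1 →
    ∀ t ∈ [((τ3, 1, 1) : T3), (1, τ3, 1), (1, 1, τ3)], t ∈ [bv i₁ i₂ i₃, bv j₁ j₂ j₃, bv k₁ k₂ k₃,
      bv i₁ i₂ i₃ * bv j₁ j₂ j₃, bv i₁ i₂ i₃ * bv k₁ k₂ k₃, bv j₁ j₂ j₃ * bv k₁ k₂ k₃,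
      bv i₁ i₂ i₃ * bv j₁ j₂ j₃ * bv k₁ k₂ k₃] := by decide +kernel

theorem syl3 {U : Subgroup T3} {x y w : T3} (hx : x ∈ U) (hy : y ∈ U) (hw : w ∈ U)
    (h2 : ∀ u ∈ U, u * u = 1) (hc : ∀ u ∈ U, ∀ v ∈ U, u * v = v * u) (n1 : x ≠ 1) (n2 : y ≠ 1)
    (n3 : w ≠ 1) (n4 : x * y ≠ 1) (n5 : x * w ≠ 1) (n6 : y * w ≠ 1) (n7 : x * y * w ≠ 1) :
    ∃ g : T3, g * (τ3, 1, 1) * g⁻¹ ∈ U ∧ g * (1, τ3, 1) * g⁻¹ ∈ U ∧ g * (1, 1, τ3) * g⁻¹ ∈ U := by
  have c3 : ∀ a b c : Perm (Fin 3), a * a = 1 → b * b = 1 → c * c = 1 → a * b = b * a →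
      a * c = c * a → b * c = c * b → ∃ g : Perm (Fin 3), ∃ i j k : Bool,
      g⁻¹ * a * g = cond i τ3 1 ∧ g⁻¹ * b * g = cond j τ3 1 ∧ g⁻¹ * c * g = cond k τ3 1 := by
    decide +kernel
  have k : ∀ f : T3 →* Perm (Fin 3), ∃ g : Perm (Fin 3), ∃ i j k : Bool,
      g⁻¹ * f x * g = cond i τ3 1 ∧ g⁻¹ * f y * g = cond j τ3 1 ∧ g⁻¹ * f w * g = cond k τ3 1 :=
    fun f => by
      have a : ∀ u ∈ U, f u * f u = 1 := fun u hu => by rw [← map_mul, h2 u hu, map_one]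
      have b : ∀ u ∈ U, ∀ v ∈ U, f u * f v = f v * f u := fun u hu v hv => by
        rw [← map_mul, hc u hu v hv, map_mul]
      exact c3 _ _ _ (a x hx) (a y hy) (a w hw) (b x hx y hy) (b x hx w hw) (b y hy w hw)
  obtain ⟨g₁, i₁, j₁, k₁, a₁, b₁, c₁⟩ := k (MonoidHom.fst _ _)
  obtain ⟨g₂, i₂, j₂, k₂, a₂, b₂, c₂⟩ := k ((MonoidHom.fst _ _).comp (MonoidHom.snd _ _))
  obtain ⟨g₃, i₃, j₃, k₃, a₃, b₃, c₃⟩ := k ((MonoidHom.snd _ _).comp (MonoidHom.snd _ _))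
  set g : T3 := (g₁, g₂, g₃)
  let φ := MulAut.conj g⁻¹
  have n : ∀ {u}, u ≠ 1 → φ u ≠ 1 := fun h => by simpa using h
  have e := bv_span i₁ i₂ i₃ j₁ j₂ j₃ k₁ k₂ k₃
  rw [← show φ x = bv i₁ i₂ i₃ by simpa [φ, g, bv, Prod.ext_iff] using ⟨a₁, a₂, a₃⟩,
    ← show φ y = bv j₁ j₂ j₃ by simpa [φ, g, bv, Prod.ext_iff] using ⟨b₁, b₂, b₃⟩,
    ← show φ w = bv k₁ k₂ k₃ by simpa [φ, g, bv, Prod.ext_iff] using ⟨c₁, c₂, c₃⟩] at e
  simp only [← map_mul] at e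
  replace e := e (n n1) (n n2) (n n3) (n n4) (n n5) (n n6) (n n7)
  have f : ∀ t ∈ [((τ3, 1, 1) : T3), (1, τ3, 1), (1, 1, τ3)], g * t * g⁻¹ ∈ U := fun t ht => by
    have m : ∀ {u}, u ∈ U → g * φ u * g⁻¹ ∈ U := fun hu => by simpa [φ, mul_assoc] using hu
    have := e t ht
    simp only [List.mem_cons, List.not_mem_nil, or_false] at this
    rcases this with h | h | h | h | h | h | h <;> rw [h] <;> apply m
    exacts [hx, hy, hw, mul_mem hx hy, mul_mem hx hw, mul_mem hy hw, mul_mem (mul_mem hx hy) hw]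
  exact ⟨g, f _ (by simp), f _ (by simp), f _ (by simp)⟩

variable {G : Type u} [Group G] {V : Type*} [AddCommGroup V] [Module (ZMod 2) V]

/-- Transport of the shadow along a linear equivalence. -/
def Sh.map {Q : Subgroup G} {z : G} (S : Sh Q z V) {V' : Type*} [AddCommGroup V']
    [Module (ZMod 2) V'] (κ : V' ≃ₗ[ZMod 2] V) : Sh Q z V' where
  pre := S.pre
  π x := κ.symm (S.π x)
  π_mul x hx y hy := by rw [S.π_mul x hx y hy, map_add]
  π_surj v := (S.π_surj (κ v)).imp fun x hx => ⟨hx.1, by rw [hx.2, κ.symm_apply_apply]⟩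
  π_eq_zero x hx := by rw [map_eq_zero_iff _ κ.symm.injective, S.π_eq_zero x hx]
  b := S.b.comp κ κ
  b_π x hx y hy := by simpa using S.b_π x hx y hy
  q v := S.q (κ v)
  q_π x hx := by simpa using S.q_π x hx
  ρ g := κ.symm.toLinearMap ∘ₗ S.ρ g ∘ₗ κ.toLinearMap
  ρ_π g hg x hx := by simpa using S.ρ_π g hg x hx

section Ext
variable {X : Type*} [AddCommGroup X] [Module (ZMod 2) X] (r : V →ₗ[ZMod 2] V) (h : X →ₗ[ZMod 2] V)

def ext3 : X × X →ₗ[ZMod 2] V := h.coprod (r ∘ₗ h)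

variable {r h} {t : V →ₗ[ZMod 2] V}

theorem ext3_apply (v : X × X) : ext3 r h v = h v.1 + r (h v.2) := rfl

theorem ext3_comm {β : X → X} (c : ∀ v, t (r v) = r (t v)) (e : ∀ x, t (h x) = h (β x))
    (v : X × X) : t (ext3 r h v) = ext3 r h (β v.1, β v.2) := by
  simp only [ext3_apply, map_add, c, e]

theorem ext3_r (c : ∀ v, r (r v) = r v + v) (v : X × X) :
    r (ext3 r h v) = ext3 r h (act3 r3 v) := by
  have : r3 0 = 1 ∧ r3 1 = 2 := by decide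
  simp only [ext3_apply, map_add, c, act3, ten, this]
  simp; abel

theorem ext3_t (c : ∀ v, r (r v) = r v + v) (d : ∀ v, t (r v) = r (r (t v)))
    (e : ∀ x, t (h x) = h x) (v : X × X) : t (ext3 r h v) = ext3 r h (act3 τ3 v) := by
  have : τ3 0 = 0 ∧ τ3 1 = 2 := by decide
  simp only [ext3_apply, map_add, c, d, e, act3, ten, this]
  simp; abel

theorem ext3_inj (c : ∀ v, r (r v) = r v + v) (d : ∀ v, t (r v) = r (r (t v)))
    (e : ∀ x, t (h x) = h x) (i : Function.Injective h) : Function.Injective (ext3 r h) :=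
  (injective_iff_map_eq_zero _).2 fun v hv => by
    have k := congrArg t hv
    rw [ext3_apply] at hv
    rw [ext3_apply, map_add, d, e, e, c, ← add_assoc, hv, map_zero, zero_add,
      map_eq_zero_iff _ i] at k
    rw [k, map_zero, map_zero, add_zero, map_eq_zero_iff _ i] at hv
    exact Prod.ext hv k

end Ext

/-- The local model. -/
structure D4 (z s : G) (Φ : Fm z T3) (S : Sh (qOf z) z W8) : Prop where
  nw : NW z s
  surj : ∀ p, ∃ g ∈ centralizer ({z} : Set G), Φ.F g = p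
  ρ : ∀ g ∈ centralizer ({z} : Set G), ∀ v, S.ρ g v = ρ8 (Φ.F g) v
  b : ∀ u v, S.b u v = b8 u v
  q : ∀ v, S.q v = q8 v
  πs : S.π s = e8

theorem D4.mk' {z s : G} {Φ : Fm z T3} {S : Sh (qOf z) z W8} (nw : NW z s)
    (surj : ∀ p, ∃ g ∈ centralizer ({z} : Set G), Φ.F g = p)
    (ρ : ∀ g ∈ centralizer ({z} : Set G), ∀ v, S.ρ g v = ρ8 (Φ.F g) v) (πs : S.π s = e8) :
    D4 z s Φ S := by
  have i : ∀ p u v, S.b (ρ8 p u) (ρ8 p v) = S.b u v := fun p u v => by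
    obtain ⟨g, hg, rfl⟩ := surj p
    rw [← ρ g hg, ← ρ g hg, S.b_ρ hg]
  have n : ∀ p v, ρ8 p e8 = e8 → S.b e8 (ρ8 p v + v) = 0 := fun p v h => by
    rw [map_add, ← i p e8 v, h, add_self']
  have e : ∀ w : W8, w = (ρ8 (τ3, 1, 1) (0, w.1) + (0, w.1)) +
      (ρ8 (1, τ3, 1) (0, 0, w.2.1) + (0, 0, w.2.1)) +
      (ρ8 (1, 1, τ3) (0, 0, 0, w.2.2.1) + (0, 0, 0, w.2.2.1)) + b8 e8 w • (0, 0, 0, 1) := by
    decide +kernel
  have a : ∀ w, S.b e8 w = b8 e8 w * S.b e8 (0, 0, 0, 1) := fun w => by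
    conv_lhs => rw [e w, map_add, map_add, map_add, n _ _ (by decide +kernel),
      n _ _ (by decide +kernel), n _ _ (by decide +kernel), map_smul]
    simp only [zero_add, smul_eq_mul]
  have a' : ∀ w, S.b e8 w = b8 e8 w := fun w => by
    obtain ⟨u, hu⟩ := S.exists_b (v := e8) (by decide)
    rw [S.b_comm, a] at hu
    have : S.b e8 (0, 0, 0, 1) ≠ 0 := fun c => by simp [c] at hu
    rw [a, z2_ne_zero.1 this, mul_one]
  have c : ∀ i j k w, b8 e8 (ρ8 (rb i j k)⁻¹ w) = b8 (ρ8 (rb i j k) e8) w := by decide +kernel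
  have hb : ∀ u v, S.b u v = b8 u v := fun u v => by
    induction u using W8_ind with
    | h0 => simp [b8, om4, om2]
    | h j k l u hu =>
      rw [map_add, LinearMap.add_apply, hu, b8_add, ← c, ← a', ← i (rb j k l) e8, ← ρ8_mul,
        mul_inv_cancel, ρ8_one]
  refine ⟨nw, surj, ρ, hb, fun v => ?_, πs⟩
  induction v using W8_ind with
  | h0 => rw [S.q_zero]; rfl
  | h j k l u hu =>
    obtain ⟨g, hg, e⟩ := surj (rb j k l)
    have : ∀ j k l, q8 (ρ8 (rb j k l) e8) = 0 := by decide +kernel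
    rw [S.q_add, q8_add, hu, hb, this, ← e, ← ρ g hg, S.q_ρ hg, ← πs, nw.q_s]

theorem Sh.eq_zero_of_four [Finite V] {Q : Subgroup G} {z g : G} (S : Sh Q z V)
    (hg : g ∈ centralizer ({z} : Set G)) (h2 : g * g ∈ Q) {w : Fin 4 → V}
    (i : Function.Injective w) (h : ∀ j y, S.b y (w j) = 0 → S.N g y = 0 ∨ S.N g y = w j) (u : V) :
    S.N g u = 0 := by
  by_contra c
  have k : ∀ j l, j ≠ l → S.N g u = w j ∨ S.N g u = w l ∨ S.N g u = w j + w l := fun j l hne => by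
    have : S.N g u ∈ Submodule.span (ZMod 2) {w j, w l} := S.mem_of_perp fun y hy => by
      have a := h j y (S.mem_perp'.1 hy _ (Submodule.subset_span (by simp)))
      have b := h l y (S.mem_perp'.1 hy _ (Submodule.subset_span (by simp)))
      have : S.N g y = 0 := a.elim id fun a => b.elim id fun b => (hne (i (a ▸ b))).elim
      rw [← S.b_N' hg h2, this, map_zero, LinearMap.zero_apply]
    obtain ⟨a, b, e⟩ := Submodule.mem_span_pair.1 this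
    rcases z2_cases a with rfl | rfl <;> rcases z2_cases b with rfl | rfl <;> simp at e <;>
      simp [← e] at c ⊢
  have m : ∀ j l n, j ≠ l → j ≠ n → l ≠ n → S.N g u ≠ w j → S.N g u ≠ w l → S.N g u ≠ w n →
      False := fun j l n a b c d e f => c (i (add_left_cancel (a := w j) (by
    rw [← ((k j l a).resolve_left d).resolve_left e, ← ((k j n b).resolve_left d).resolve_left f])))
  have n : ∀ j l, j ≠ l → S.N g u = w j → S.N g u ≠ w l := fun j l a b c => a (i (b ▸ c))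
  by_cases a : S.N g u = w 0
  · exact m 1 2 3 (by decide) (by decide) (by decide) (n 0 1 (by decide) a) (n 0 2 (by decide) a)
      (n 0 3 (by decide) a)
  by_cases b : S.N g u = w 1
  · exact m 0 2 3 (by decide) (by decide) (by decide) a (n 1 2 (by decide) b) (n 1 3 (by decide) b)
  by_cases d : S.N g u = w 2
  · exact m 0 1 3 (by decide) (by decide) (by decide) a b (n 2 3 (by decide) d)
  exact m 0 1 2 (by decide) (by decide) (by decide) a b d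

section Exists
variable [Finite G] [Finite V] {z s : G} {Φ : Fm z T3} (S : Sh (qOf z) z V) (h : NW z s)
  (hB : ∀ i j k, ∃ a ∈ BB z s, Φ.F a = bv i j k)
include h hB

omit [Finite G] [Finite V] in
theorem stab3 {g : G} (hg : g ∈ centralizer ({z} : Set G)) (e : S.ρ g (S.π s) = S.π s) :
    ∃ i j k, Φ.F g = bv i j k := by
  obtain ⟨x, hx, hs⟩ := h.exists_cent S hg (S.N_eq_zero.2 e)
  have hz := mul_mem hg (qOf_le z hx)
  obtain ⟨a, ha, e⟩ := hB true true true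
  have := (Φ.comm_iff (NW.B_conj' hz hs ha).2 ha.2).1 (h.comm_mem (NW.B_conj' hz hs ha) ha)
  rw [Φ.conj hz ha.2, Φ.mul _ hg _ (qOf_le z hx), Φ.of_mem hx, mul_one, e] at this
  have k : ∀ g : Perm (Fin 3), g * τ3 * g⁻¹ * τ3 = τ3 * (g * τ3 * g⁻¹) → ∃ i, g = cond i τ3 1 := by
    decide
  obtain ⟨i, hi⟩ := k _ (congrArg (·.1) this)
  obtain ⟨j, hj⟩ := k _ (congrArg (·.2.1) this)
  obtain ⟨l, hl⟩ := k _ (congrArg (·.2.2) this)
  exact ⟨i, j, l, Prod.ext hi (Prod.ext hj hl)⟩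

theorem three3 (hV : finrank (ZMod 2) V = 8)
    (surj : ∀ p, ∃ g ∈ centralizer ({z} : Set G), Φ.F g = p) {v : V}
    (hv : ∀ a ∈ BB z s, S.N a v = 0) : v = 0 ∨ v = S.π s := by
  refine (h.dichotomy S hV).elim (fun T => ?_) fun T => T.three v hv
  exfalso
  obtain ⟨a, ha, e⟩ := hB true false false
  choose c hc ec using surj
  let p : Fin 4 → T3 := ![1, (1, r3, 1), (1, r3 * r3, 1), (1, 1, r3)]
  have hp : ∀ j l i₁ i₂ i₃, (p j)⁻¹ * p l = bv i₁ i₂ i₃ → j = l := by decide +kernel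
  have hq : ∀ j, p j * bv true false false = bv true false false * p j := by decide +kernel
  have := S.eq_zero_of_four ha.2 (h.sq_mem ha) (w := fun j => S.ρ (c (p j)) (S.π s))
    (fun j l e => by
      obtain ⟨i₁, i₂, i₃, k⟩ := stab3 S h hB (mul_mem (inv_mem (hc (p j))) (hc (p l)))
        (by rw [S.ρ_mul (inv_mem (hc _)) (hc _), ← show _ = S.ρ (c (p l)) _ from e,
          S.ρ_inv_ρ (hc _)])
      rw [Φ.mul _ (inv_mem (hc _)) _ (hc _), Φ.inv (hc _), ec, ec] at k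
      exact hp _ _ _ _ _ k)
    fun j y hy => by
      rw [← S.ρ_ρ_inv (hc (p j)) y] at hy ⊢
      rw [S.b_ρ (hc _)] at hy
      rw [Φ.N_ρ_comm S ha.2 (hc _) (by rw [e, ec, hq])]
      exact (T a ha _ hy).imp (fun k => by rw [k, map_zero]) fun k => by rw [k]
  have := Φ.of_mem (S.mem_of_N ha.2 this)
  rw [e] at this
  exact absurd this (by decide)

theorem fpf3 (hV : finrank (ZMod 2) V = 8)
    (surj : ∀ p, ∃ g ∈ centralizer ({z} : Set G), Φ.F g = p) {r : G}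
    (hr : r ∈ centralizer ({z} : Set G)) (h1 : ∀ i j k, Φ.F r ≠ bv i j k)
    (h2 : ∀ i j k, bv i j k * Φ.F r = Φ.F r * Φ.F r * bv i j k ∨
      bv i j k * Φ.F r = Φ.F r * bv i j k) (h3 : Φ.F r * Φ.F r * Φ.F r = 1) (v : V) :
    S.ρ r (S.ρ r v) = S.ρ r v + v := by
  have k : ∀ v, S.ρ r v = v → v = 0 := fun v hv => by
    by_contra c
    have st : ∀ i j k v, v ≠ 0 → S.ρ r v = v → ∃ u, u ≠ 0 ∧ S.ρ r u = u ∧
        (∀ a ∈ BB z s, Φ.F a = bv i j k → S.N a u = 0) ∧ ∀ a ∈ BB z s, S.N a v = 0 → S.N a u = 0 := by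
      intro i j k v c hv
      obtain ⟨a, ha, e⟩ := hB i j k
      by_cases d : S.N a v = 0
      · exact ⟨v, c, hv, fun b hb f => by rw [Φ.N_congr S hb.2 ha.2 (f.trans e.symm), d],
          fun _ _ => id⟩
      refine ⟨_, d, ?_, fun b hb f => by rw [Φ.N_congr S hb.2 ha.2 (f.trans e.symm), h.N_N S ha],
        fun b hb f => by rw [h.N_comm S hb ha, f, map_zero]⟩
      rcases h2 i j k with f | f
      · have : S.ρ a v = S.ρ r (S.ρ r (S.ρ a v)) := by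
          rw [← S.ρ_mul hr hr, ← S.ρ_mul (mul_mem hr hr) ha.2, ← Φ.ρ_congr S (mul_mem ha.2 hr)
            (mul_mem (mul_mem hr hr) ha.2) (by
              rw [Φ.mul _ ha.2 _ hr, Φ.mul _ (mul_mem hr hr) _ ha.2, Φ.mul _ hr _ hr, e, f]),
            S.ρ_mul ha.2 hr, hv]
        have t : S.ρ r (S.ρ r (S.ρ r (S.ρ a v))) = S.ρ a v := by
          rw [← S.ρ_mul hr hr, ← S.ρ_mul (mul_mem hr hr) hr, S.ρ_of_mem ((Φ.ker _
            (mul_mem (mul_mem hr hr) hr)).1 (by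
              rw [Φ.mul _ (mul_mem hr hr) _ hr, Φ.mul _ hr _ hr, h3]))]
        rw [S.N_apply, map_add, hv, this, t, ← this]
      · rw [← Φ.N_ρ_comm S ha.2 hr (by rw [e, f]), hv]
    obtain ⟨u₁, c₁, d₁, e₁, -⟩ := st true false false v c hv
    obtain ⟨u₂, c₂, d₂, e₂, f₂⟩ := st false true false u₁ c₁ d₁
    obtain ⟨u₃, c₃, d₃, e₃, f₃⟩ := st false false true u₂ c₂ d₂
    obtain ⟨a₁, b₁, g₁⟩ := hB true false false
    obtain ⟨a₂, b₂, g₂⟩ := hB false true false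
    obtain ⟨a₃, b₃, g₃⟩ := hB false false true
    have m₁ : a₁ ∈ S.Fix u₃ := ⟨b₁.2, S.N_eq_zero.1 (f₃ _ b₁ (f₂ _ b₁ (e₁ _ b₁ g₁)))⟩
    have m₂ : a₂ ∈ S.Fix u₃ := ⟨b₂.2, S.N_eq_zero.1 (f₃ _ b₂ (e₂ _ b₂ g₂))⟩
    have m₃ : a₃ ∈ S.Fix u₃ := ⟨b₃.2, S.N_eq_zero.1 (e₃ _ b₃ g₃)⟩
    refine (three3 S h hB hV surj (v := u₃) fun a ha => ?_).elim c₃ fun k => ?_
    swap
    · obtain ⟨i, j, l, e⟩ := stab3 S h hB hr (k ▸ d₃)
      exact h1 _ _ _ e
    obtain ⟨i, j, l, e⟩ := stab3 S h hB ha.2 (S.N_eq_zero.1 (h.N_s S ha.2 (h.B_le ha)))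
    have m : ∀ (i : Bool) {a}, a ∈ S.Fix u₃ → cond i a 1 ∈ S.Fix u₃ := fun i a ha => by
      cases i; exacts [one_mem _, ha]
    have n := mul_mem (mul_mem (m i m₁) (m j m₂)) (m l m₃)
    rw [S.N_eq_zero, Φ.ρ_congr S ha.2 n.1 ?_, n.2]
    rw [Φ.mul _ (mul_mem (m i m₁) (m j m₂)).1 _ (m l m₃).1, Φ.mul _ (m i m₁).1 _ (m j m₂).1, e]
    simp only [Bool.apply_cond Φ.F, g₁, g₂, g₃, Φ.one]
    clear e n; revert i j l; decide
  have t : S.ρ r (S.ρ r (S.ρ r v)) = v := by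
    rw [← S.ρ_mul hr hr, ← S.ρ_mul (mul_mem hr hr) hr, S.ρ_of_mem ((Φ.ker _
      (mul_mem (mul_mem hr hr) hr)).1 (by rw [Φ.mul _ (mul_mem hr hr) _ hr, Φ.mul _ hr _ hr, h3]))]
  rw [← add_eq_zero']
  exact k _ (by rw [map_add, map_add, t]; abel)

include S in
theorem exists_d4_aux (hV : finrank (ZMod 2) V = 8)
    (surj : ∀ p, ∃ g ∈ centralizer ({z} : Set G), Φ.F g = p) : ∃ S', D4 z s Φ S' := by
  choose c hc ec using id surj
  choose a ha ea using id hB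
  have fp : ∀ p ∈ [((r3, 1, 1) : T3), (1, r3, 1), (1, 1, r3)], ∀ v,
      S.ρ (c p) (S.ρ (c p) v) = S.ρ (c p) v + v := fun p hp =>
    fpf3 S h hB hV surj (hc p) (by rw [ec]; revert p; decide +kernel)
      (by rw [ec]; revert p; decide +kernel) (by rw [ec]; revert p; decide +kernel)
  have f₁ := fp (r3, 1, 1) (by simp)
  have f₂ := fp (1, r3, 1) (by simp)
  have f₃ := fp (1, 1, r3) (by simp)
  have cm : ∀ {g p}, g ∈ centralizer ({z} : Set G) → Φ.F g * p = p * Φ.F g → ∀ v,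
      S.ρ g (S.ρ (c p) v) = S.ρ (c p) (S.ρ g v) := fun hg e => Φ.ρ_comm S hg (hc _) (by rw [ec, e])
  have iv : ∀ {g p}, g ∈ centralizer ({z} : Set G) → Φ.F g * p = p * p * Φ.F g → ∀ v,
      S.ρ g (S.ρ (c p) v) = S.ρ (c p) (S.ρ (c p) (S.ρ g v)) := fun hg e v => by
    rw [← S.ρ_mul hg (hc _), ← S.ρ_mul (hc _) (hc _), ← S.ρ_mul (mul_mem (hc _) (hc _)) hg]
    refine Φ.ρ_congr S (mul_mem hg (hc _)) (mul_mem (mul_mem (hc _) (hc _)) hg) ?_ _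
    rw [Φ.mul _ hg _ (hc _), Φ.mul _ (mul_mem (hc _) (hc _)) _ hg, Φ.mul _ (hc _) _ (hc _), ec, e]
  let h₀ := LinearMap.toSpanSingleton (ZMod 2) V (S.π s)
  have i₀ : Function.Injective h₀ := LinearMap.ker_eq_bot.1
    (LinearMap.ker_toSpanSingleton _ (h.π_ne S))
  have t₀ : ∀ i j k x, S.ρ (a i j k) (h₀ x) = h₀ x := fun i j k x => by
    rw [LinearMap.toSpanSingleton_apply, map_smul,
      S.N_eq_zero.1 (h.N_s S (ha i j k).2 (h.B_le (ha i j k)))]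
  let h₁ := ext3 (S.ρ (c (1, 1, r3))) h₀
  let h₂ := ext3 (S.ρ (c (1, r3, 1))) h₁
  let h₃ := ext3 (S.ρ (c (r3, 1, 1))) h₂
  have z₁ := (ha true false false).2
  have z₂ := (ha false true false).2
  have z₃ := (ha false false true).2
  have t₁ : ∀ i j x, S.ρ (a i j false) (h₁ x) = h₁ x := fun i j =>
    ext3_comm (β := id) (cm (ha i j false).2 (by rw [ea]; revert i j; decide)) (t₀ i j false)
  have t₂ : ∀ x, S.ρ (a true false false) (h₂ x) = h₂ x :=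
    ext3_comm (β := id) (cm z₁ (by rw [ea]; decide)) (t₁ _ _)
  have d₁ := iv (p := (r3, 1, 1)) z₁ (by rw [ea]; decide)
  have d₂ := iv (p := (1, r3, 1)) z₂ (by rw [ea]; decide)
  have d₃ := iv (p := (1, 1, r3)) z₃ (by rw [ea]; decide)
  have i₃ : Function.Injective h₃ := ext3_inj f₁ d₁ t₂ (ext3_inj f₂ d₂ (t₁ _ _)
    (ext3_inj f₃ d₃ (t₀ _ _ _) i₀))
  let κ := h₃.linearEquivOfInjective i₃ (by simp [hV])
  have P : ∀ p g, g ∈ centralizer ({z} : Set G) → Φ.F g = p → ∀ v,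
      S.ρ g (h₃ v) = h₃ (ρ8 p v) := by
    have r : ∀ {p} g, g ∈ centralizer ({z} : Set G) → Φ.F g = p →
        (∀ v, S.ρ g (h₃ v) = h₃ (ρ8 p v)) → ∀ g, g ∈ centralizer ({z} : Set G) → Φ.F g = p →
          ∀ v, S.ρ g (h₃ v) = h₃ (ρ8 p v) := fun g hg e k g' hg' e' v => by
      rw [← k, Φ.ρ_congr S hg hg' (e.trans e'.symm)]
    refine T3_ind (fun p p' k k' => r _ (mul_mem (hc p) (hc p'))
      (by rw [Φ.mul _ (hc _) _ (hc _), ec, ec]) fun v => ?_) (r _ z₁ (ea _ _ _) fun v => ?_)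
      (r _ z₂ (ea _ _ _) fun v => ?_) (r _ z₃ (ea _ _ _) fun v => ?_) (r _ (hc _) (ec _) fun v => ?_)
      (r _ (hc _) (ec _) fun v => ?_) (r _ (hc _) (ec _) fun v => ?_)
    · rw [S.ρ_mul (hc _) (hc _), k' _ (hc _) (ec _), k _ (hc _) (ec _), ρ8_mul]
    · simpa [ρ8, ρ4, act3_one] using ext3_t f₁ d₁ t₂ v
    · simpa [ρ8, ρ4, act3_one] using ext3_comm (cm z₂ (by rw [ea]; decide))
        (ext3_t f₂ d₂ (t₁ _ _)) v
    · simpa [ρ8, ρ4, act3_one] using ext3_comm (cm z₃ (by rw [ea]; decide))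
        (ext3_comm (cm z₃ (by rw [ea]; decide)) (ext3_t f₃ d₃ (t₀ _ _ _))) v
    · simpa [ρ8, ρ4, act3_one] using ext3_r f₁ v
    · simpa [ρ8, ρ4, act3_one] using ext3_comm (cm (hc _) (by rw [ec]; decide)) (ext3_r f₂) v
    · simpa [ρ8, ρ4, act3_one] using ext3_comm (cm (hc _) (by rw [ec]; decide))
        (ext3_comm (cm (hc _) (by rw [ec]; decide)) (ext3_r f₃)) v
  refine ⟨S.map κ, .mk' h surj (fun g hg v => κ.symm_apply_eq.2 (P _ g hg rfl v))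
    (κ.symm_apply_eq.2 ?_)⟩
  simp [κ, h₃, h₂, h₁, h₀, e8, ext3_apply]

end Exists

theorem exists_d4 [Finite G] {z s : G} (Φ : Fm z T3) (h : NW z s) (hc : Nat.card (qOf z) = 2 ^ 9)
    (surj : ∀ p, ∃ g ∈ centralizer ({z} : Set G), Φ.F g = p) : ∃ Φ S, D4 z s Φ S := by
  let S := shOf h.pre
  have hV := S.finrank_eq hc
  obtain ⟨a, ha, b, hb, c, hc, n1, n2, n3, n4, n5, n6, n7⟩ := h.exists_three S hV
  have m : ∀ {a}, a ∈ BB z s → Φ.F a ∈ Φ.im (BB z s) := fun ha => Φ.mem_im.2 ⟨_, ha, ha.2, rfl⟩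
  have n : ∀ {a}, a ∈ BB z s → a ∉ qOf z → Φ.F a ≠ 1 := fun ha k e => k ((Φ.ker _ ha.2).1 e)
  obtain ⟨g, k₁, k₂, k₃⟩ := syl3 (m ha) (m hb) (m hc) (fun u hu => by
      obtain ⟨x, hx, -, rfl⟩ := Φ.mem_im.1 hu
      rw [← Φ.mul _ hx.2 _ hx.2, Φ.of_mem (h.sq_mem hx)]) (fun u hu v hv => by
      obtain ⟨x, hx, -, rfl⟩ := Φ.mem_im.1 hu
      obtain ⟨y, hy, -, rfl⟩ := Φ.mem_im.1 hv
      exact (Φ.comm_iff hx.2 hy.2).1 (h.comm_mem hx hy)) (n ha n1) (n hb n2) (n hc n3)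
    (Φ.mul _ ha.2 _ hb.2 ▸ n (mul_mem ha hb) n4) (Φ.mul _ ha.2 _ hc.2 ▸ n (mul_mem ha hc) n5)
    (Φ.mul _ hb.2 _ hc.2 ▸ n (mul_mem hb hc) n6) (by
      rw [← Φ.mul _ ha.2 _ hb.2, ← Φ.mul _ (mul_mem ha hb).2 _ hc.2]
      exact n (mul_mem (mul_mem ha hb) hc) n7)
  refine ⟨Φ.map (MulAut.conj g⁻¹).toMonoidHom (MulAut.conj g⁻¹).injective,
    exists_d4_aux S h (fun i j k => ?_) hV fun p => ?_⟩
  · have o : ∀ (i : Bool) {t}, g * t * g⁻¹ ∈ Φ.im (BB z s) →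
        g * cond i t 1 * g⁻¹ ∈ Φ.im (BB z s) := fun i t ht => by
      cases i
      · simp
      · exact ht
    obtain ⟨x, hx, -, e⟩ := Φ.mem_im.1 (mul_mem (mul_mem (o i k₁) (o j k₂)) (o k k₃))
    refine ⟨x, hx, ?_⟩
    have : bv i j k = cond i (τ3, 1, 1) 1 * cond j (1, τ3, 1) 1 * cond k (1, 1, τ3) 1 := by
      clear e; revert i j k; decide
    simp [Fm.map, e, this, mul_assoc]
  · obtain ⟨x, hx, e⟩ := surj (g * p * g⁻¹)
    exact ⟨x, hx, by simp [Fm.map, e, mul_assoc]⟩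

end Cfsg.Lib.LX
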