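import Cfsg.Agent.LX.D4a

/-! The elementary abelian subgroups of order `64` in the local model of `D₄(2)`. -/

set_option autoImplicit false
set_option synthInstance.maxSize 4000

universe u

namespace Cfsg.Lib.LX

open Subgroup Cfsg.Lib.Local Cfsg.Lib.Solv Module Cfsg.Lib.Spor Equiv
open scoped Pointwise commutatorElement

def pu (i j k : Fin 3) : W8 := ten i (ten j (ten k 1))

theorem ten_map {X Y : Type*} [AddCommGroup X] [AddCommGroup Y] (φ : X → Y)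
    (h : ∀ a b, φ (a + b) = φ a + φ b) (i : Fin 3) (u : X) :
    (φ (ten i u).1, φ (ten i u).2) = ten i (φ u) := by
  have h0 : φ 0 = 0 := by simpa using h 0 0
  simp only [ten, apply_ite φ, h0]

theorem ρ8_ten (p : T3) (i : Fin 3) (u : W4) :
    ρ8 p (ten i u) = ten (p.1 i) (ρ4 p.2.1 p.2.2 u) := by
  rw [ρ8, ten_map _ (ρ4_add _ _), act3_ten]

theorem ρ8_pu (p : T3) (i j k : Fin 3) : ρ8 p (pu i j k) = pu (p.1 i) (p.2.1 j) (p.2.2 k) := by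
  rw [pu, ρ8_ten, ρ4, ten_map _ (act3_add _), act3_ten, act3_ten, pu]

theorem pu_inj : ∀ {i j k i' j' k' : Fin 3}, pu i j k = pu i' j' k' → i = i' ∧ j = j' ∧ k = k' := by
  decide +kernel

theorem e8_eq : e8 = pu 0 0 0 := by decide

theorem pu_ne : ∀ i j k, pu i j k ≠ 0 := by decide

def tr3 (i : Fin 3) : Perm (Fin 3) := r3 ^ (i : ℕ)

theorem tr3_zero : ∀ i, tr3 i 0 = i := by decide

theorem s3_fix : ∀ g : Perm (Fin 3), (g 0 = 0 → g = 1 ∨ g = τ3) ∧ (g 0 = 0 → g 1 = 1 → g = 1) := by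
  decide

def Wt (i : Fin 3) : Submodule (ZMod 2) W8 where
  carrier := {v | ∃ u, v = ten i u}
  zero_mem' := ⟨0, by simp [ten]; rfl⟩
  add_mem' := by rintro _ _ ⟨u, rfl⟩ ⟨v, rfl⟩; exact ⟨u + v, (ten_add ..).symm⟩
  smul_mem' := by
    rintro c _ ⟨u, rfl⟩
    rcases z2_cases c with rfl | rfl
    · exact ⟨0, by simp [ten]; rfl⟩
    · exact ⟨u, by simp⟩

theorem mem_Wt0 {v : W8} : v ∈ Wt 0 ↔ v.2 = 0 :=
  ⟨by rintro ⟨u, rfl⟩; rfl, fun h => ⟨v.1, Prod.ext rfl h⟩⟩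

def InE (v : W8) : Prop := v.1.2.2 = 0 ∧ v.2.1.2 = 0 ∧ v.2.2 = 0

instance : DecidablePred InE := fun _ => by unfold InE; infer_instance

theorem exists_bv {p : T3} (h : p * p = 1) : ∃ g i j k, p = g * bv i j k * g⁻¹ := by
  have : ∀ a : Perm (Fin 3), a * a = 1 → ∃ g i, a = g * cond i τ3 1 * g⁻¹ := by decide
  obtain ⟨g₁, i, a⟩ := this _ (congrArg (·.1) h)
  obtain ⟨g₂, j, b⟩ := this _ (congrArg (·.2.1) h)
  obtain ⟨g₃, k, c⟩ := this _ (congrArg (·.2.2) h)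
  exact ⟨(g₁, g₂, g₃), i, j, k, Prod.ext a (Prod.ext b c)⟩

theorem ρ8_add (p : T3) (u v : W8) : ρ8 p (u + v) = ρ8 p u + ρ8 p v := by
  simp only [ρ8, Prod.fst_add, Prod.snd_add, ρ4_add, ← act3_add, Prod.mk_add_mk]

theorem ρ8_inv (p : T3) (v : W8) : ρ8 p⁻¹ (ρ8 p v) = v := by rw [← ρ8_mul, inv_mul_cancel, ρ8_one]

theorem ρ8_inv' (p : T3) (v : W8) : ρ8 p (ρ8 p⁻¹ v) = v := by rw [← ρ8_mul, mul_inv_cancel, ρ8_one]

theorem free8 {p : T3} (h : p * p = 1) (h1 : p ≠ 1) {v : W8} (hv : ρ8 p v = v) :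
    ∃ u, ρ8 p u + u = v := by
  obtain ⟨g, i, j, k, rfl⟩ := exists_bv h
  have a : ∀ i j k, bv i j k ≠ 1 → ∀ v, ρ8 (bv i j k) v = v → ∀ u, u = cond i (v.1, v.1)
      (cond j ((v.1.1, v.1.1), v.2.1, v.2.1) (((v.1.1.1, v.1.1.1), v.1.2.1, v.1.2.1),
        (v.2.1.1, v.2.1.1), v.2.2.1, v.2.2.1)) → ρ8 (bv i j k) u + u = v := by
    simp only [forall_eq]; decide +kernel
  have := a i j k (fun e => h1 (by simp [e])) (ρ8 g⁻¹ v) (by
    conv_rhs => rw [← hv, ρ8_mul, ρ8_mul, ρ8_inv]) _ rfl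
  exact ⟨ρ8 g _, by rw [ρ8_mul, ρ8_mul, ρ8_inv, ← ρ8_add, this, ρ8_inv']⟩

variable {G : Type u} [Group G]

section Cj
variable {z x : G} (g : G)

theorem mem_C_cj : x ∈ centralizer ({g * z * g⁻¹} : Set G) ↔
    g⁻¹ * x * g ∈ centralizer ({z} : Set G) := by
  rw [mem_C, mem_C, ← (MulAut.conj g⁻¹).injective.eq_iff]; simp [mul_assoc]

theorem mem_Q_cj : x ∈ qOf (g * z * g⁻¹) ↔ g⁻¹ * x * g ∈ qOf z := by
  rw [← mem_qOf_conj_iff (g := g) (x := z)]; simp [mul_assoc]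

theorem mem_cj {K : Subgroup G} : x ∈ MulAut.conj g • K ↔ g⁻¹ * x * g ∈ K := by
  rw [mem_pointwise_smul_iff_inv_smul_mem]; simp

theorem cj_mul (x y : G) : g⁻¹ * (x * y) * g = g⁻¹ * x * g * (g⁻¹ * y * g) := by group

def Fm.cj {P : Type*} [Group P] (Φ : Fm z P) : Fm (g * z * g⁻¹) P where
  F x := Φ.F (g⁻¹ * x * g)
  mul a ha b hb := by rw [cj_mul, Φ.mul _ ((mem_C_cj g).1 ha) _ ((mem_C_cj g).1 hb)]
  ker a ha := by rw [Φ.ker _ ((mem_C_cj g).1 ha), mem_Q_cj]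

def Sh.cj {V : Type*} [AddCommGroup V] [Module (ZMod 2) V] (S : Sh (qOf z) z V) :
    Sh (qOf (g * z * g⁻¹)) (g * z * g⁻¹) V where
  pre := S.pre.qOf_of_conj ⟨g, rfl⟩
  π x := S.π (g⁻¹ * x * g)
  π_mul x hx y hy := by rw [cj_mul, S.π_mul _ ((mem_Q_cj g).1 hx) _ ((mem_Q_cj g).1 hy)]
  π_surj v := by
    obtain ⟨x, hx, e⟩ := S.π_surj v
    exact ⟨_, mem_qOf_conj hx, by simpa [mul_assoc] using e⟩
  π_eq_zero x hx := by
    rw [S.π_eq_zero' ((mem_Q_cj g).1 hx),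
      mem_zpowers_iff_of_orderOf_two (S.pre.qOf_of_conj ⟨g, rfl⟩).ord]
    simp only [← (MulAut.conj g).injective.eq_iff (a := g⁻¹ * x * g)]; simp [mul_assoc]
  b := S.b
  b_π x hx y hy := by
    rw [S.b_π _ ((mem_Q_cj g).1 hx) _ ((mem_Q_cj g).1 hy), ← cj_mul, ← cj_mul]; simp
  q := S.q
  q_π x hx := by
    rw [S.q_π _ ((mem_Q_cj g).1 hx), ← cj_mul, ← (MulAut.conj g).injective.eq_iff]; simp [mul_assoc]
  ρ a := S.ρ (g⁻¹ * a * g)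
  ρ_π a ha x hx := by
    rw [S.ρ_π _ ((mem_C_cj g).1 ha) _ ((mem_Q_cj g).1 hx)]; congr 1; group

end Cj

def Sh.P {z : G} (S : Sh (qOf z) z W8) (i : Fin 3) : Subgroup G := S.pre' (Wt i)
def Sh.J {z : G} (S : Sh (qOf z) z W8) (i : Fin 3) : Subgroup G := centralizer (S.P i : Set G)

theorem Sh.J_cj {z : G} (S : Sh (qOf z) z W8) (g : G) (i : Fin 3) :
    (S.cj g).J i = MulAut.conj g • S.J i := by
  ext x
  rw [mem_cj, Sh.J, Sh.J, mem_centralizer_iff, mem_centralizer_iff]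
  refine ⟨fun h y hy => ?_, fun h y hy => ?_⟩
  · have := h (g * y * g⁻¹) ⟨mem_qOf_conj hy.1, by simpa [Sh.cj, mul_assoc] using hy.2⟩
    rw [← (MulAut.conj g).injective.eq_iff]; simpa [mul_assoc] using this
  · have := h (g⁻¹ * y * g) ⟨(mem_Q_cj g).1 hy.1, hy.2⟩
    rw [← cj_mul, ← cj_mul] at this; simpa using this

namespace D4
variable {z s : G} {Φ : Fm z T3} {S : Sh (qOf z) z W8} (D : D4 z s Φ S)
include D

theorem cj (g : G) : D4 (g * z * g⁻¹) (g * s * g⁻¹) (Φ.cj g) (S.cj g) where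
  nw := D.nw.conj g
  surj p := by
    obtain ⟨c, hc, e⟩ := D.surj p
    exact ⟨g * c * g⁻¹, (mem_C_cj g).2 (by simpa [mul_assoc] using hc),
      by simpa [Fm.cj, mul_assoc] using e⟩
  ρ a ha := D.ρ _ ((mem_C_cj g).1 ha)
  b := D.b
  q := D.q
  πs := by simpa [Sh.cj, mul_assoc] using D.πs

theorem π_conj {c x : G} (hc : c ∈ centralizer ({z} : Set G)) (hx : x ∈ qOf z) :
    S.π (c * x * c⁻¹) = ρ8 (Φ.F c) (S.π x) := by rw [← D.ρ c hc, S.ρ_π c hc x hx]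

theorem N_eq {c : G} (hc : c ∈ centralizer ({z} : Set G)) (v : W8) :
    S.N c v = ρ8 (Φ.F c) v + v := by rw [S.N_apply, D.ρ c hc]

theorem fix {c x : G} (hc : c ∈ centralizer ({z} : Set G)) (hx : x ∈ qOf z) (h : c * x = x * c) :
    ρ8 (Φ.F c) (S.π x) = S.π x := by rw [← D.π_conj hc hx, h, mul_inv_cancel_right]

theorem comm_iff {x y : G} (hx : x ∈ qOf z) (hy : y ∈ qOf z) :
    x * y = y * x ↔ b8 (S.π x) (S.π y) = 0 := by rw [← D.b, S.b_π x hx y hy]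

omit D in
theorem card (S : Sh (qOf z) z W8) : Nat.card (qOf z) = 2 ^ 9 := by
  rw [S.card_of_mem le_rfl S.pre.mem, S.img_self]; simp

theorem exists_c (p : T3) {x : G} (hx : x ∈ qOf z) (e : S.π x = ρ8 p e8) :
    ∃ c ∈ centralizer ({z} : Set G), Φ.F c = p ∧ c * s * c⁻¹ = x := by
  obtain ⟨c, hc, rfl⟩ := D.surj p
  rw [← D.πs, ← D.π_conj hc D.nw.mem, S.π_eq_iff hx (S.conj_mem hc D.nw.mem)] at e
  refine e.elim (fun e => ⟨c, hc, rfl, e⟩) fun e => ?_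
  obtain ⟨y, hy, f⟩ := D.nw.exists_x
  refine ⟨c * y, mul_mem hc (qOf_le z hy), by
    rw [Φ.mul _ hc _ (qOf_le z hy), Φ.of_mem hy, mul_one], ?_⟩
  rw [show c * y * s * (c * y)⁻¹ = c * (y * s * y⁻¹) * c⁻¹ by group, f, ← mul_assoc, mem_C.1 hc,
    mul_assoc, mul_assoc, ← mul_assoc c, e, S.pre.central x hx, ← mul_assoc, S.pre.mul_self, one_mul]

theorem exists_c' {x : G} (hx : x ∈ qOf z) {i j k : Fin 3} (e : S.π x = pu i j k) :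
    ∃ c ∈ centralizer ({z} : Set G), Φ.F c = (tr3 i, tr3 j, tr3 k) ∧ c * s * c⁻¹ = x :=
  D.exists_c _ hx (by rw [e, e8_eq, ρ8_pu]; simp [tr3_zero])

theorem nw_of_pu {x : G} (hx : x ∈ qOf z) {i j k : Fin 3} (e : S.π x = pu i j k) : NW z x := by
  obtain ⟨c, hc, -, rfl⟩ := D.exists_c' hx e
  exact D.nw.conj' hc

omit D in
theorem memP {i : Fin 3} {x : G} : x ∈ S.P i ↔ x ∈ qOf z ∧ ∃ u, S.π x = ten i u := Iff.rfl

omit D in
theorem memP0 {x : G} : x ∈ S.P 0 ↔ x ∈ qOf z ∧ (S.π x).2 = 0 := and_congr_right' mem_Wt0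

omit D in
theorem zP (i : Fin 3) : z ∈ S.P i := S.z_mem_pre' _

omit D in
theorem J_le {i : Fin 3} {x : G} (h : x ∈ S.J i) : x ∈ centralizer ({z} : Set G) :=
  mem_C.2 (h z (zP i)).symm

theorem sP : s ∈ S.P 0 := memP0.2 ⟨D.nw.mem, by rw [D.πs]; rfl⟩

theorem P_sq {i : Fin 3} {x : G} (h : x ∈ S.P i) : x * x = 1 := by
  obtain ⟨hx, u, e⟩ := h
  have : ∀ i u, q8 (ten i u) = 0 := by decide +kernel
  rw [← S.q_π x hx, D.q, e, this]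

theorem P_le (i : Fin 3) : S.P i ≤ S.J i := fun x hx y hy => by
  rw [← mul_eq_one_iff_eq_inv.1 (D.P_sq (mul_mem hy hx)) |>.symm, mul_inv_rev,
    inv_eq_of_mul_eq_one_right (D.P_sq hx), inv_eq_of_mul_eq_one_right (D.P_sq hy)]

theorem zJ (i : Fin 3) : z ∈ S.J i := D.P_le i (zP i)

theorem conjP {i : Fin 3} {c x : G} (hc : c ∈ centralizer ({z} : Set G)) (h : x ∈ S.P i) :
    c * x * c⁻¹ ∈ S.P ((Φ.F c).1 i) := by
  obtain ⟨hx, u, e⟩ := h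
  exact ⟨S.conj_mem hc hx, _, by rw [D.π_conj hc hx, e, ρ8_ten]⟩

theorem conjJ (i : Fin 3) {c : G} (hc : c ∈ centralizer ({z} : Set G)) :
    MulAut.conj c • S.J i = S.J ((Φ.F c).1 i) := by
  ext x
  rw [mem_cj]
  refine ⟨fun h y hy => ?_, fun h y hy => ?_⟩
  · have := D.conjP (inv_mem hc) hy
    rw [Φ.inv hc, Prod.fst_inv, Perm.inv_def, symm_apply_apply, inv_inv] at this
    have := h _ this
    rw [← cj_mul, ← cj_mul] at this; simpa using this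
  · have := h _ (D.conjP hc hy)
    rw [← (MulAut.conj c).injective.eq_iff]; simpa [mul_assoc] using this

theorem memP_of_J {i : Fin 3} {x : G} (h : x ∈ S.J i) (hx : x ∈ qOf z) : x ∈ S.P i := by
  have : ∀ i v, (∀ j k, b8 (pu i j k) v = 0) → v = ten i (if i = 1 then v.2 else v.1) := by
    decide +kernel
  refine ⟨hx, _, this i _ fun j k => ?_⟩
  obtain ⟨y, hy, e⟩ := S.π_surj (pu i j k)
  rw [← e, ← D.comm_iff hy hx, h y ⟨hy, _, e⟩]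

theorem J_F {i : Fin 3} {x : G} (h : x ∈ S.J i) : (Φ.F x).1 i = i ∧ (Φ.F x).2 = 1 := by
  have : ∀ j k, (Φ.F x).1 i = i ∧ (Φ.F x).2.1 j = j ∧ (Φ.F x).2.2 k = k := fun j k => by
    obtain ⟨y, hy, e⟩ := S.π_surj (pu i j k)
    have := D.fix (J_le h) hy (h y ⟨hy, _, e⟩).symm
    rw [e, ρ8_pu] at this
    exact pu_inj this
  exact ⟨(this 0 0).1, Prod.ext (Perm.ext fun j => (this j 0).2.1)
    (Perm.ext fun j => (this 0 j).2.2)⟩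

theorem J_F0 {x : G} (h : x ∈ S.J 0) (hx : x ∉ qOf z) : Φ.F x = (τ3, 1, 1) := by
  obtain ⟨a, b⟩ := D.J_F h
  refine Prod.ext (((s3_fix _).1 a).resolve_left fun c => hx ?_) b
  exact (Φ.ker x (J_le h)).1 (Prod.ext c b)

theorem inverts {d x : G} (hd : d ∈ centralizer ({z} : Set G)) (h2 : d * d = 1) (hQ : d ∉ qOf z)
    (hx : x ∈ qOf z) (h : ρ8 (Φ.F d) (S.π x) = S.π x) : d * x * d⁻¹ = x⁻¹ := by
  obtain ⟨u, e⟩ := free8 (by rw [← Φ.mul _ hd _ hd, h2, Φ.one])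
    (fun c => hQ ((Φ.ker d hd).1 c)) h
  obtain ⟨y, hy, rfl⟩ := S.π_surj u
  rw [← D.N_eq hd, S.N_π hd hy, S.π_eq_iff (S.comm_mem hd hy) hx] at e
  have i : d⁻¹ = d := inv_eq_of_mul_eq_one_right h2
  have k : d * ⁅d, y⁆ * d⁻¹ = ⁅d, y⁆⁻¹ := by
    simp only [commutatorElement_def, mul_inv_rev, inv_inv, i, ← mul_assoc, h2, one_mul]
  rcases e with rfl | rfl
  · exact k
  · rw [← mul_assoc, mul_assoc, ← mem_C.1 (inv_mem hd), ← mul_assoc, k, mul_inv_rev, S.pre.inv_eq,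
      S.pre.central _ (inv_mem (S.comm_mem hd hy))]

theorem memJ {d : G} (hd : d ∈ centralizer ({z} : Set G)) (h2 : d * d = 1)
    (e : Φ.F d = (τ3, 1, 1)) : d ∈ S.J 0 := fun x hx => by
  obtain ⟨hx', u, f⟩ := id hx
  have := D.inverts hd h2 (fun c => absurd (e ▸ Φ.of_mem c) (by decide)) hx' (by
    rw [e, f, ρ8_ten]; simp [ρ4, act3_one, show τ3 0 = 0 by decide])
  rw [inv_eq_of_mul_eq_one_right (D.P_sq hx)] at this
  rw [← this, inv_mul_cancel_right, this]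

variable [Finite G]

theorem syl {x : G} (h : NW z x) : ∃ g : T3, S.π x = ρ8 g e8 ∧
    g * (τ3, 1, 1) * g⁻¹ ∈ Φ.im (BB z x) ∧ g * (1, τ3, 1) * g⁻¹ ∈ Φ.im (BB z x) ∧
      g * (1, 1, τ3) * g⁻¹ ∈ Φ.im (BB z x) := by
  obtain ⟨a, ha, b, hb, c, hc, n1, n2, n3, n4, n5, n6, n7⟩ := h.exists_three S (by simp)
  have m : ∀ {a}, a ∈ BB z x → Φ.F a ∈ Φ.im (BB z x) := fun ha => Φ.mem_im.2 ⟨_, ha, ha.2, rfl⟩
  have n : ∀ {a}, a ∈ BB z x → a ∉ qOf z → Φ.F a ≠ 1 := fun ha k e => k ((Φ.ker _ ha.2).1 e)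
  obtain ⟨g, k₁, k₂, k₃⟩ := syl3 (m ha) (m hb) (m hc) (fun u hu => by
      obtain ⟨x, hx, -, rfl⟩ := Φ.mem_im.1 hu
      rw [← Φ.mul _ hx.2 _ hx.2, Φ.of_mem (h.sq_mem hx)]) (fun u hu v hv => by
      obtain ⟨x, hx, -, rfl⟩ := Φ.mem_im.1 hu
      obtain ⟨y, hy, -, rfl⟩ := Φ.mem_im.1 hv
      exact (Φ.comm_iff hx.2 hy.2).1 (h.comm_mem hx hy)) (n ha n1) (n hb n2) (n hc n3)
    (Φ.mul _ ha.2 _ hb.2 ▸ n (mul_mem ha hb) n4) (Φ.mul _ ha.2 _ hc.2 ▸ n (mul_mem ha hc) n5)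
    (Φ.mul _ hb.2 _ hc.2 ▸ n (mul_mem hb hc) n6) (by
      rw [← Φ.mul _ ha.2 _ hb.2, ← Φ.mul _ (mul_mem ha hb).2 _ hc.2]
      exact n (mul_mem (mul_mem ha hb) hc) n7)
  have f : ∀ {t}, g * t * g⁻¹ ∈ Φ.im (BB z x) → ρ8 t (ρ8 g⁻¹ (S.π x)) = ρ8 g⁻¹ (S.π x) := fun k => by
    obtain ⟨y, hy, -, e⟩ := Φ.mem_im.1 k
    conv_rhs => rw [← D.fix hy.2 h.mem (mem_C.1 (h.B_le hy)), e, ρ8_mul, ρ8_mul, ρ8_inv]
  have : ∀ v, ρ8 (τ3, 1, 1) v = v → ρ8 (1, τ3, 1) v = v → ρ8 (1, 1, τ3) v = v → v = 0 ∨ v = e8 := by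
    decide +kernel
  refine ⟨g, ?_, k₁, k₂, k₃⟩
  rcases this _ (f k₁) (f k₂) (f k₃) with e | e
  · exact (h.π_ne S (by rw [← ρ8_inv' g (S.π x), e]; simpa using ρ8_add g 0 0)).elim
  · rw [← e, ρ8_inv']

theorem pure {x : G} (h : NW z x) : ∃ i j k, S.π x = pu i j k := by
  obtain ⟨g, e, -⟩ := D.syl h
  exact ⟨_, _, _, by rw [e, e8_eq, ρ8_pu]⟩

theorem hB : (τ3, 1, 1) ∈ Φ.im (BB z s) ∧ (1, τ3, 1) ∈ Φ.im (BB z s) ∧
    (1, 1, τ3) ∈ Φ.im (BB z s) := by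
  obtain ⟨⟨a, b, c⟩, e, k⟩ := D.syl D.nw
  rw [D.πs, e8_eq, ρ8_pu] at e
  have : ∀ g : Perm (Fin 3), 0 = g 0 → g * τ3 * g⁻¹ = τ3 := by decide
  simpa [this a (pu_inj e).1, this b (pu_inj e).2.1, this c (pu_inj e).2.2] using k

theorem mem_E {x : G} (hx : x ∈ qOf z) : x ∈ qOf s ↔ InE (S.π x) := by
  obtain ⟨a, ha, -, ea⟩ := Φ.mem_im.1 D.hB.1
  obtain ⟨b, hb, -, eb⟩ := Φ.mem_im.1 D.hB.2.1
  obtain ⟨c, hc, -, ec⟩ := Φ.mem_im.1 D.hB.2.2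
  have k₁ := D.nw.NN_mem S hb hc (pu 1 1 1)
  have k₂ := D.nw.NN_mem S ha hc (pu 1 1 1)
  have k₃ := D.nw.NN_mem S ha hb (pu 1 1 1)
  have k₄ := D.nw.s_mem_E S
  simp only [D.N_eq ha.2, D.N_eq hb.2, D.N_eq hc.2, ea, eb, ec, D.πs] at k₁ k₂ k₃ k₄
  replace k₁ : pu 1 0 0 ∈ S.E s := by convert k₁ using 1; decide +kernel
  replace k₂ : pu 0 1 0 ∈ S.E s := by convert k₂ using 1; decide +kernel
  replace k₃ : pu 0 0 1 ∈ S.E s := by convert k₃ using 1; decide +kernel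
  rw [← D.nw.mem_E S hx]
  refine ⟨fun h => ?_, fun h => ?_⟩
  · have : ∀ v, b8 (pu 1 0 0) v = 0 → b8 (pu 0 1 0) v = 0 → b8 (pu 0 0 1) v = 0 → b8 e8 v = 0 →
        InE v := by decide +kernel
    simp only [← D.b] at this
    exact this _ (D.nw.b_E S k₁ h) (D.nw.b_E S k₂ h) (D.nw.b_E S k₃ h) (D.nw.b_E S k₄ h)
  · have : ∀ v, InE v → v = v.2.1.1 • pu 1 0 0 + v.1.2.1 • pu 0 1 0 + v.1.1.2 • pu 0 0 1 +
        v.1.1.1 • e8 := by decide +kernel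
    rw [this _ h]
    exact add_mem (add_mem (add_mem (Submodule.smul_mem _ _ k₁) (Submodule.smul_mem _ _ k₂))
      (Submodule.smul_mem _ _ k₃)) (Submodule.smul_mem _ _ k₄)

/-- `g` acts trivially on `(Q_z ∩ Q_s) / ⟨z, s⟩`. -/
def St (S : Sh (qOf z) z W8) (s g : G) : Prop := ∀ x ∈ qOf z, x ∈ qOf s → g * x * g⁻¹ ∈ qOf z ∧
  g * x * g⁻¹ ∈ qOf s ∧ (S.π (g * x * g⁻¹) = S.π x ∨ S.π (g * x * g⁻¹) = S.π x + e8)

omit D [Finite G] in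
theorem St.mul {a b : G} (ha : St S s a) (hb : St S s b) : St S s (a * b) := fun x h1 h2 => by
  obtain ⟨k1, k2, k3⟩ := hb x h1 h2
  obtain ⟨l1, l2, l3⟩ := ha _ k1 k2
  rw [show a * b * x * (a * b)⁻¹ = a * (b * x * b⁻¹) * a⁻¹ by group]
  refine ⟨l1, l2, ?_⟩
  rcases k3 with k3 | k3 <;> rcases l3 with l3 | l3 <;> simp [l3, k3, add_add_cancel'']

theorem st {a : G} (ha : a ∈ qOf z ∨ a ∈ qOf s) : St S s a := fun x h1 h2 => by
  have k : ∀ {d}, PreLX (qOf d) d → a ∈ qOf d → x ∈ qOf d →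
      a * x * a⁻¹ = x ∨ a * x * a⁻¹ = x * d := fun h ha hx => by
    have T := shOf h
    exact (T.π_eq_iff hx (T.conj_mem (qOf_le _ ha) hx)).1 (by
      rw [← T.ρ_π a (qOf_le _ ha) x hx, T.ρ_of_mem ha])
  rcases ha with ha | ha
  · rcases k S.pre ha h1 with e | e <;> rw [e]
    · exact ⟨h1, h2, .inl rfl⟩
    · exact ⟨mul_mem h1 S.pre.mem, mul_mem h2 D.nw.zs, .inl (S.π_mul_z h1)⟩
  · rcases k D.nw.ps ha h2 with e | e <;> rw [e]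
    · exact ⟨h1, h2, .inl rfl⟩
    · exact ⟨mul_mem h1 D.nw.mem, mul_mem h2 D.nw.ps.mem, .inr (by rw [S.π_mul x h1 s D.nw.mem, D.πs])⟩

omit [Finite G] in
theorem J_cases {τ x : G} (hτ : τ ∈ S.J 0) (hQ : τ ∉ qOf z) (h : x ∈ S.J 0) (hx : x ∉ qOf z) :
    τ⁻¹ * x ∈ S.P 0 := D.memP_of_J (mul_mem (inv_mem hτ) h) ((Φ.eq_iff (J_le hτ) (J_le h)).1 (by
      rw [D.J_F0 hτ hQ, D.J_F0 h hx]))

theorem swap_aux {g : G} (h2 : g * s * g⁻¹ = z) (h4 : St S s g⁻¹) {x : G}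
    (hx : x ∈ S.P 0) (hs : x ∉ qOf s) : g * x * g⁻¹ ∈ S.J 0 ∧ g * x * g⁻¹ ∉ qOf z := by
  have a : g * x * g⁻¹ ∉ qOf z := by rwa [← h2, mem_qOf_conj_iff]
  have b : g * x * g⁻¹ ∈ centralizer ({z} : Set G) := by
    rw [← h2, mem_C_cj]; simpa [mul_assoc] using mem_C.2 (D.P_le 0 D.sP x hx)
  have c : ∀ j k, InE (pu 0 j k) → (Φ.F (g * x * g⁻¹)).1 0 = 0 ∧ (Φ.F (g * x * g⁻¹)).2.1 j = j ∧
      (Φ.F (g * x * g⁻¹)).2.2 k = k := fun j k h => by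
    obtain ⟨y, hy, e⟩ := S.π_surj (pu 0 j k)
    obtain ⟨l1, -, l3⟩ := h4 y hy ((D.mem_E hy).2 (e ▸ h))
    have := D.P_le 0 (memP0.2 ⟨l1, by rcases l3 with l | l <;> rw [l, e] <;> rfl⟩) x hx
    have := D.fix b hy (by
      rw [← (MulAut.conj g⁻¹).injective.eq_iff]; simpa [mul_assoc] using this)
    rw [e, ρ8_pu] at this
    exact pu_inj this
  have e : (Φ.F (g * x * g⁻¹)).2 = 1 :=
    Prod.ext ((s3_fix _).2 (c 0 0 (by decide)).2.1 (c 1 0 (by decide)).2.1)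
      ((s3_fix _).2 (c 0 0 (by decide)).2.2 (c 0 1 (by decide)).2.2)
  refine ⟨D.memJ b (by simp [mul_assoc, ← mul_assoc x, D.P_sq hx]) (Prod.ext
    (((s3_fix _).1 (c 0 0 (by decide)).1).resolve_left fun k => a ?_) e), a⟩
  exact (Φ.ker _ b).1 (Prod.ext k e)

theorem exists_swap : ∃ g : G, g * z * g⁻¹ = s ∧ g * s * g⁻¹ = z ∧ St S s g ∧ St S s g⁻¹ ∧
    MulAut.conj g • S.J 0 = S.J 0 := by
  obtain ⟨x, hx, ex⟩ := D.nw.exists_x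
  obtain ⟨y, hy, ey⟩ := D.nw.symm.exists_x
  have fx : x * z * x⁻¹ = z := by rw [S.pre.central x hx, mul_inv_cancel_right]
  have fy : y * s * y⁻¹ = s := by rw [D.nw.ps.central y hy, mul_inv_cancel_right]
  have c : ∀ a b c : G, a * (b * c) * a⁻¹ = a * b * a⁻¹ * (a * c * a⁻¹) := fun a b c => by group
  have c' : ∀ w, x * y * x * w * (x * y * x)⁻¹ = x * (y * (x * w * x⁻¹) * y⁻¹) * x⁻¹ :=
    fun w => by group
  have h1 : x * y * x * z * (x * y * x)⁻¹ = s := by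
    rw [c', fx, ey, c, ex, fx, mul_assoc, D.nw.comm, ← mul_assoc, S.pre.mul_self, one_mul]
  have h2 : x * y * x * s * (x * y * x)⁻¹ = z := by
    rw [c', ex, c y z, ey, fy, D.nw.comm, mul_assoc z, D.nw.ss, mul_one, fx]
  have h3 := ((D.st (.inl hx)).mul (D.st (.inr hy))).mul (D.st (.inl hx))
  have h4 : St S s (x * y * x)⁻¹ := by
    rw [mul_inv_rev, mul_inv_rev]
    exact (D.st (.inl (inv_mem hx))).mul ((D.st (.inr (inv_mem hy))).mul (D.st (.inl (inv_mem hx))))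
  refine ⟨_, h1, h2, h3, h4, ?_⟩
  generalize x * y * x = g at *
  have a : ∀ x ∈ S.P 0, g * x * g⁻¹ ∈ S.J 0 := fun x hx => by
    by_cases k : x ∈ qOf s
    · obtain ⟨l1, -, l3⟩ := h3 x hx.1 k
      exact D.P_le 0 (memP0.2 ⟨l1, by
        rcases l3 with l | l <;> simp [l, (memP0.1 hx).2, e8]⟩)
    · exact (D.swap_aux h2 h4 hx k).1
  obtain ⟨x, hx, e⟩ := S.π_surj (pu 0 1 1)
  have b := D.swap_aux h2 h4 (x := x) ⟨hx, _, e⟩ (by rw [D.mem_E hx, e]; decide)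
  have gz : g * g ∈ centralizer ({z} : Set G) := mem_C.2 (by
    rw [← mul_inv_eq_iff_eq_mul, show g * g * z * (g * g)⁻¹ = g * (g * z * g⁻¹) * g⁻¹ by group, h1, h2])
  have gs := D.fix gz D.nw.mem (by
    rw [← mul_inv_eq_iff_eq_mul, show g * g * s * (g * g)⁻¹ = g * (g * s * g⁻¹) * g⁻¹ by group, h2, h1])
  rw [D.πs, e8_eq, ρ8_pu] at gs
  have gx := D.conjP gz (x := x) ⟨hx, _, e⟩
  rw [(pu_inj gs).1] at gx
  refine eq_of_le_of_card_ge (fun w hw => ?_) (Nat.card_congr (equivSMul _ _).toEquiv).le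
  rw [mem_cj] at hw
  rw [show w = g * (g⁻¹ * w * g) * g⁻¹ by group]
  generalize g⁻¹ * w * g = w at hw
  by_cases k : w ∈ qOf z
  · exact a w (D.memP_of_J hw k)
  have := mul_mem (D.P_le 0 gx) (a _ (D.J_cases b.1 b.2 hw k))
  convert this using 1; group

theorem exists_τ : ∃ τ ∈ S.J 0, τ ∉ qOf z ∧ (∃ g : G, g * z * g⁻¹ = τ ∧
    MulAut.conj g • S.J 0 = S.J 0) ∧ ¬ IsConj z (τ * z) := by
  obtain ⟨g, h1, h2, -, h4, h5⟩ := D.exists_swap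
  obtain ⟨x, hx, e⟩ := S.π_surj (pu 0 1 1)
  have b := D.swap_aux h2 h4 (x := x) ⟨hx, _, e⟩ (by rw [D.mem_E hx, e]; decide)
  obtain ⟨c, hc, f, rfl⟩ := D.exists_c' hx e
  refine ⟨_, b.1, b.2, ⟨g * c * g, by rw [← h1]; group, ?_⟩, fun k => ?_⟩
  · rw [map_mul, map_mul, mul_smul, mul_smul, h5, D.conjJ 0 hc, f, tr3_zero, h5]
  have k' : IsConj z (c * s * c⁻¹ * s) := k.trans (by
    conv_lhs => rw [← h2]
    exact isConj_iff.2 ⟨g⁻¹, by group⟩)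
  have m := mul_mem hx D.nw.mem
  have n := S.π_mul _ hx _ D.nw.mem
  rw [e, D.πs] at n
  obtain ⟨i, j, l, k⟩ := D.pure ⟨S.pre, k', m, fun k => by
    rw [k, S.π_z] at n; exact absurd n (by decide)⟩
  rw [n] at k
  revert i j l; decide

theorem J_sq {x : G} (h : x ∈ S.J 0) : x * x = 1 := by
  by_cases k : x ∈ qOf z
  · exact D.P_sq (D.memP_of_J h k)
  obtain ⟨τ, a, b, ⟨g, rfl, -⟩, -⟩ := D.exists_τ
  have c := D.J_cases a b h k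
  have d := (S.pre.qOf_of_conj ⟨g, rfl⟩).mul_self
  generalize g * z * g⁻¹ = τ at *
  rw [← mul_inv_cancel_left τ x]
  generalize τ⁻¹ * x = p at c
  rw [mul_assoc, ← mul_assoc p, a p c, mul_assoc, D.P_sq c, mul_one, d]

theorem trans {d : G} (hd : d ∈ S.J 0) (h : IsConj z d) :
    ∃ g : G, g * z * g⁻¹ = d ∧ MulAut.conj g • S.J 0 = S.J 0 := by
  by_cases k : d ∈ qOf z
  · by_cases e : d = z
    · exact ⟨1, by simp [e], by simp⟩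
    obtain ⟨i, j, l, e⟩ := D.pure ⟨S.pre, h, k, e⟩
    have := (memP0.1 (D.memP_of_J hd k)).2
    obtain rfl : i = 0 := by rw [e] at this; clear e; revert i j l; decide
    obtain ⟨c, hc, f, rfl⟩ := D.exists_c' k e
    obtain ⟨g, h1, -, -, -, h5⟩ := D.exists_swap
    exact ⟨c * g, by rw [← h1]; group, by
      rw [map_mul, mul_smul, h5, D.conjJ 0 hc, f, tr3_zero]⟩
  obtain ⟨τ, a, b, ⟨g, e, h5⟩, n⟩ := D.exists_τ
  have c := D.J_cases a b hd k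
  have t := inv_eq_of_mul_eq_one_right (D.J_sq a)
  obtain ⟨u, f⟩ := free8 (p := (τ3, 1, 1)) (by decide) (by decide) (v := S.π (τ⁻¹ * d)) (by
    rw [← D.J_F0 a b, D.fix (J_le a) c.1 (a _ c).symm])
  obtain ⟨y, hy, rfl⟩ := S.π_surj u
  rw [← D.J_F0 a b, ← D.N_eq (J_le a), S.N_π (J_le a) hy, S.π_eq_iff (S.comm_mem (J_le a) hy) c.1,
    inv_mul_eq_iff_eq_mul, inv_mul_eq_iff_eq_mul] at f
  have l : τ * ⁅τ, y⁆ = y * τ * y⁻¹ := by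
    rw [commutatorElement_def, t, ← mul_assoc, ← mul_assoc, ← mul_assoc, D.J_sq a, one_mul]
  rcases f with rfl | rfl
  · exact ⟨y * g, by rw [l, ← e]; group, by
      rw [map_mul, mul_smul, h5, D.conjJ 0 (qOf_le z hy), Φ.of_mem hy]; rfl⟩
  · refine (n (h.trans (isConj_iff.2 ⟨y⁻¹, ?_⟩))).elim
    rw [← mul_assoc τ, l, inv_inv, mul_assoc, mul_assoc, ← S.pre.central y hy]; group

end D4

end Cfsg.Lib.LX
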