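import Cfsg.Agent.LX.D4b

/-! The polar space on the conjugates of the elementary abelian subgroup of order `64`. -/

set_option autoImplicit false
set_option synthInstance.maxSize 4000

universe u

namespace Cfsg.Lib.LX

open Subgroup Cfsg.Lib.Local Cfsg.Lib.Solv Module Cfsg.Lib.Spor Equiv
open scoped Pointwise commutatorElement

variable {G : Type u} [Group G]

theorem cj_mem {K : Subgroup G} {g x : G} (h : x ∈ K) : g * x * g⁻¹ ∈ MulAut.conj g • K :=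
  (mem_cj g).2 (by simpa [mul_assoc] using h)

theorem cj_cj (K : Subgroup G) (a b : G) :
    MulAut.conj a • MulAut.conj b • K = MulAut.conj (a * b) • K := by rw [map_mul, mul_smul]

theorem cj_inv (K : Subgroup G) (a : G) : MulAut.conj a⁻¹ • MulAut.conj a • K = K := by
  rw [map_inv, inv_smul_smul]

theorem cj_inv' (K : Subgroup G) (a : G) : MulAut.conj a • MulAut.conj a⁻¹ • K = K := by
  rw [map_inv, smul_inv_smul]

namespace D4
variable {z s : G} {Φ : Fm z T3} {S : Sh (qOf z) z W8} (D : D4 z s Φ S)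
include D

theorem J_inj {i j : Fin 3} (h : S.J i = S.J j) : i = j := by
  obtain ⟨x, hx, e⟩ := S.π_surj (pu i 0 0)
  obtain ⟨-, u, f⟩ := D.memP_of_J (h ▸ D.P_le i ⟨hx, _, e⟩) hx
  rw [e] at f
  clear h e; revert i j u; decide +kernel

theorem meet {i : Fin 3} (hi : i ≠ 0) {x : G} (h : x ∈ S.J 0) (h' : x ∈ S.J i) : x = 1 ∨ x = z := by
  have k : x ∈ qOf z := by
    by_contra c
    have := (D.J_F h').1
    rw [D.J_F0 h c] at this
    clear h'; revert i; decide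
  obtain ⟨-, u, e⟩ := D.memP_of_J h' k
  have := (memP0.1 (D.memP_of_J h k)).2
  rw [← S.π_eq_zero' k, e]
  rw [e] at this
  clear e h'; revert i u; decide +kernel

variable [Finite G]

theorem three {g : G} (h : z ∈ MulAut.conj g • S.J 0) : ∃ i, MulAut.conj g • S.J 0 = S.J i := by
  obtain ⟨k, e, f⟩ := D.trans ((mem_cj g).1 h) (isConj_iff.2 ⟨g⁻¹, by rw [inv_inv]⟩)
  have : g * k ∈ centralizer ({z} : Set G) := mem_C.2 (by
    rw [← mul_inv_eq_iff_eq_mul, show g * k * z * (g * k)⁻¹ = g * (k * z * k⁻¹) * g⁻¹ by group, e]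
    group)
  exact ⟨_, by rw [← D.conjJ 0 this, ← cj_cj, f]⟩

theorem plane {i : Fin 3} (hi : i ≠ 0) {m : G} (h : s ∈ MulAut.conj m • S.J 0)
    (hne : MulAut.conj m • S.J 0 ≠ S.J 0) :
    ∃ d, NW z d ∧ NW s d ∧ d ∈ S.J i ∧ d ∈ MulAut.conj m • S.J 0 := by
  obtain ⟨g, h1, -, h3, -, h5⟩ := D.exists_swap
  obtain ⟨j, e⟩ := D.three (g := g⁻¹ * m) (by
    have := cj_mem (g := g⁻¹) h
    rwa [cj_cj, ← h1, show g⁻¹ * (g * z * g⁻¹) * g⁻¹⁻¹ = z by group] at this)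
  have hj : j ≠ 0 := by
    rintro rfl
    exact hne (by rw [← cj_inv' (MulAut.conj m • _) g, cj_cj _ g⁻¹, e, h5])
  obtain ⟨x, hx, f⟩ := S.π_surj (pu j 0 0)
  obtain ⟨l1, l2, l3⟩ := h3 x hx ((D.mem_E hx).2 (by rw [f]; clear e f hj; revert j; decide))
  have k : g * x * g⁻¹ ∈ MulAut.conj m • S.J 0 := by
    rw [← cj_inv' (MulAut.conj m • _) g, cj_cj _ g⁻¹, e]
    exact cj_mem (D.P_le j ⟨hx, _, f⟩)
  generalize g * x * g⁻¹ = y at l1 l2 l3 k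
  have a : ∀ y ∈ qOf z, y ∈ qOf s → y ∈ MulAut.conj m • S.J 0 → S.π y = pu i 0 0 →
      ∃ d, NW z d ∧ NW s d ∧ d ∈ S.J i ∧ d ∈ MulAut.conj m • S.J 0 := fun y l1 l2 k l =>
    ⟨y, D.nw_of_pu l1 l, ⟨D.nw.ps, D.nw.cj.symm.trans (D.nw_of_pu l1 l).cj, l2, fun c => by
      rw [c, D.πs, e8_eq] at l; exact hi (pu_inj l).1.symm⟩, D.P_le i ⟨l1, _, l⟩, k⟩
  have b : S.π y = pu i 0 0 ∨ S.π y + e8 = pu i 0 0 := by
    rw [f] at l3
    have : ∀ i j : Fin 3, i ≠ 0 → j ≠ 0 → (pu j 0 0 = pu i 0 0 ∨ pu j 0 0 + e8 = pu i 0 0) ∧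
        (pu j 0 0 + e8 = pu i 0 0 ∨ pu j 0 0 + e8 + e8 = pu i 0 0) := by decide +kernel
    rcases l3 with l | l <;> rw [l]
    exacts [(this i j hi hj).1, (this i j hi hj).2]
  exact b.elim (a y l1 l2 k) fun b => a (y * s) (mul_mem l1 D.nw.mem) (mul_mem l2 D.nw.ps.mem)
    (mul_mem k h) (by rw [S.π_mul y l1 s D.nw.mem, D.πs, b])

theorem mem_Q_pu {x y : G} (hx : x ∈ qOf z) (hy : y ∈ qOf z) {i j k : Fin 3}
    (e : S.π x = pu i j k) : y ∈ qOf x ↔ InE (ρ8 (tr3 i, tr3 j, tr3 k)⁻¹ (S.π y)) := by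
  obtain ⟨c, hc, f, rfl⟩ := D.exists_c' hx e
  have := S.conj_mem (inv_mem hc) hy
  rw [mem_Q_cj, ← f, ← Φ.inv hc, ← D.π_conj (inv_mem hc) hy, ← D.mem_E this, inv_inv]

end D4

/-- A chart at the flag `(d, K)`. -/
def Fl (d : G) (K : Subgroup G) : Prop := ∃ s Φ S, D4 d s Φ S ∧ S.J 0 = K

theorem Fl.cj {d : G} {K : Subgroup G} (h : Fl d K) (g : G) :
    Fl (g * d * g⁻¹) (MulAut.conj g • K) := by
  obtain ⟨s, Φ, S, D, rfl⟩ := h
  exact ⟨_, _, _, D.cj g, S.J_cj g 0⟩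

/-- Incidence of a root element and a polar point. -/
structure Inc (z : G) (J : Subgroup G) (d : G) (K : Subgroup G) : Prop where
  H : Fl z J
  cz : IsConj z d
  cJ : ∃ g : G, MulAut.conj g • J = K
  mem : d ∈ K

def Col (z : G) (J K L : Subgroup G) : Prop := ∃ d, Inc z J d K ∧ Inc z J d L

theorem Col.symm {z : G} {J K L : Subgroup G} (h : Col z J K L) : Col z J L K :=
  h.imp fun _ => And.symm

namespace Inc
variable {z d a b c w x : G} {J K L M F : Subgroup G}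

theorem base (H : Fl z J) : Inc z J z J := ⟨H, .refl z, ⟨1, by simp⟩, by
  obtain ⟨s, Φ, S, D, rfl⟩ := H; exact D.zJ 0⟩

theorem cj (h : Inc z J d K) (g : G) : Inc z J (g * d * g⁻¹) (MulAut.conj g • K) :=
  ⟨h.H, h.cz.trans (isConj_conj g d), by
    obtain ⟨k, rfl⟩ := h.cJ; exact ⟨g * k, (cj_cj ..).symm⟩, cj_mem h.mem⟩

theorem cj' (h : Inc z J d K) {g : G} (hg : g * d = d * g) : Inc z J d (MulAut.conj g • K) := by
  simpa [hg] using h.cj g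

theorem _root_.Cfsg.Lib.LX.Col.cj (h : Col z J K L) (g : G) :
    Col z J (MulAut.conj g • K) (MulAut.conj g • L) := by
  obtain ⟨d, a, b⟩ := h; exact ⟨_, a.cj g, b.cj g⟩

theorem of_nw (h : Inc z J d K) (hw : NW d w) (m : w ∈ K) : Inc z J w K :=
  ⟨h.H, h.cz.trans hw.cj, h.cJ, m⟩

theorem of_nw' (h : Inc z J d K) (h' : Inc z J a L) (hw : NW d w) (m : w ∈ L) : Inc z J w L :=
  ⟨h.H, h.cz.trans hw.cj, h'.cJ, m⟩

variable [Finite G]

theorem fl (h : Inc z J d K) : Fl d K := by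
  obtain ⟨g, rfl⟩ := h.cJ
  obtain ⟨s, Φ, S, D, rfl⟩ := id h.H
  obtain ⟨k, e, f⟩ := D.trans ((mem_cj g).1 h.mem)
    (h.cz.trans (isConj_iff.2 ⟨g⁻¹, by rw [inv_inv]⟩))
  have := (h.H.cj k).cj g
  rwa [e, f, show g * (g⁻¹ * d * g) * g⁻¹ = d by group] at this

theorem chart (h : Inc z J d K) : ∃ s Φ S, D4 d s Φ S ∧ S.J 0 = K ∧
    ∀ {L}, Inc z J d L → ∃ i, L = S.J i := by
  obtain ⟨s, Φ, S, D, e⟩ := h.fl
  refine ⟨s, Φ, S, D, e, fun {L} k => ?_⟩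
  obtain ⟨g, rfl⟩ := k.cJ
  obtain ⟨g', f⟩ := h.cJ
  have : MulAut.conj g • J = MulAut.conj (g * g'⁻¹) • S.J 0 := by rw [e, ← f, ← cj_cj, cj_inv]
  rw [this]
  exact D.three (this ▸ k.mem)

theorem chart' (h : Inc z J d K) (hw : NW d w) (m : w ∈ K) : ∃ Φ S, D4 d w Φ S ∧ S.J 0 = K := by
  obtain ⟨s, Φ, S, D, rfl⟩ := h.fl
  obtain ⟨i, j, l, e⟩ := D.pure hw
  have := (D4.memP0.1 (D.memP_of_J m hw.mem)).2
  obtain rfl : i = 0 := by rw [e] at this; clear e; revert i j l; decide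
  obtain ⟨c, hc, f, rfl⟩ := D.exists_c' hw.mem e
  have k : ∃ Φ' S', D4 (c * d * c⁻¹) (c * s * c⁻¹) Φ' S' ∧ S'.J 0 = S.J 0 :=
    ⟨_, _, D.cj c, by rw [S.J_cj, D.conjJ 0 hc, f, tr3_zero]⟩
  rwa [mem_C.1 hc, mul_inv_cancel_right] at k

theorem pre (h : Inc z J d K) : PreLX (qOf d) d := by
  obtain ⟨s, Φ, S, D, -⟩ := h.fl; exact S.pre

theorem sq (h : Inc z J d K) (hx : x ∈ K) : x * x = 1 := by
  obtain ⟨s, Φ, S, D, rfl⟩ := h.fl; exact D.J_sq hx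

theorem comm (h : Inc z J d K) (ha : a ∈ K) (hb : b ∈ K) : a * b = b * a := by
  rw [← mul_eq_one_iff_eq_inv.1 (h.sq (mul_mem hb ha)) |>.symm, mul_inv_rev,
    inv_eq_of_mul_eq_one_right (h.sq ha), inv_eq_of_mul_eq_one_right (h.sq hb)]

theorem cent (h : Inc z J d K) (hx : ∀ y ∈ K, y * x = x * y) : x ∈ K := by
  obtain ⟨s, Φ, S, D, rfl⟩ := h.fl; exact fun y hy => hx y (D.P_le 0 hy)

theorem meet (h : Inc z J d K) (h' : Inc z J d L) (n : K ≠ L) (h1 : x ∈ K) (h2 : x ∈ L) :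
    x = 1 ∨ x = d := by
  obtain ⟨s, Φ, S, D, rfl, k⟩ := h.chart
  obtain ⟨i, rfl⟩ := k h'
  exact D.meet (fun c => n (c ▸ rfl)) h1 h2

theorem uniq (h : Inc z J d K) (h' : Inc z J d L) (n : K ≠ L) (h1 : Inc z J x K) (h2 : x ∈ L) :
    x = d := (h.meet h' n h1.mem h2).resolve_left h1.pre.ne_one

theorem idx (h : Inc z J d K) : IdxLeTwo (qOf d) K := fun a ha b hb h1 h2 => by
  obtain ⟨s, Φ, S, D, rfl⟩ := h.fl
  rw [Φ.mul_mem_iff (D4.J_le ha) (D4.J_le hb), D.J_F0 ha h1, D.J_F0 hb h2]; decide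

theorem move (h : Inc z J d K) (h' : Inc z J d L) (n : K ≠ L) (ha : a ∈ K) (hQ : a ∉ qOf d) :
    MulAut.conj a • L ≠ L := fun c => by
  obtain ⟨s, Φ, S, D, rfl, k⟩ := h.chart
  obtain ⟨i, rfl⟩ := k h'
  rw [D.conjJ i (D4.J_le ha), D.J_F0 ha hQ] at c
  have : ∀ i, τ3 i = i → i = 0 := by decide
  exact n (this i (D.J_inj c) ▸ rfl)

theorem norm (h : Inc z J d K) (ha : a ∈ qOf d) : MulAut.conj a • K = K := by
  obtain ⟨s, Φ, S, D, rfl⟩ := h.fl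
  rw [D.conjJ 0 (qOf_le d ha), Φ.of_mem ha]; rfl

theorem other (h : Inc z J d K) : ∃ L, Inc z J d L ∧ L ≠ K := by
  obtain ⟨s, Φ, S, D, rfl⟩ := h.fl
  obtain ⟨c, hc, e⟩ := D.surj (r3, 1, 1)
  refine ⟨_, h.cj' (mem_C.1 hc), fun k => ?_⟩
  rw [D.conjJ 0 hc, e] at k
  exact absurd (D.J_inj k) (by decide)

theorem plane (h : Inc z J d K) (hw : NW d w) (m : w ∈ K) (hL : Inc z J d L) (hM : Inc z J w M)
    (n1 : L ≠ K) (n2 : M ≠ K) : ∃ x, NW d x ∧ NW w x ∧ Inc z J x L ∧ Inc z J x M := by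
  obtain ⟨Φ, S, D, e⟩ := h.chart' hw m
  obtain ⟨g', f⟩ := h.cJ
  have k : ∀ g, MulAut.conj g • J = MulAut.conj (g * g'⁻¹) • S.J 0 := fun g => by
    rw [e, ← f, ← cj_cj, cj_inv]
  obtain ⟨g, rfl⟩ := id hM.cJ
  obtain ⟨l, rfl⟩ := id hL.cJ
  obtain ⟨i, r⟩ := D.three (k l ▸ hL.mem)
  rw [← k] at r
  obtain ⟨x, a, b, c, c'⟩ := D.plane (i := i) (fun c => n1 (by rw [r, c, e])) (k g ▸ hM.mem)
    (by rwa [← k, e])
  exact ⟨x, a, b, hL.of_nw a (r ▸ c), h.of_nw' hM a (k g ▸ c')⟩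

theorem line (h : Inc z J d K) (hw : NW d w) : ∃ L, Inc z J d L ∧ Inc z J w L := by
  obtain ⟨s, Φ, S, D, rfl⟩ := h.fl
  obtain ⟨i, j, l, e⟩ := D.pure hw
  obtain ⟨c, hc, f, rfl⟩ := D.exists_c' hw.mem e
  exact ⟨_, h.cj' (mem_C.1 hc), (h.of_nw D.nw (D.P_le 0 D.sP)).cj c⟩

theorem nw (h : Inc z J d K) (h' : Inc z J w L) (m : w ∈ qOf d) (n : w ≠ d) : NW d w :=
  ⟨h.pre, h.cz.symm.trans h'.cz, m, n⟩

theorem symm_mem (h : Inc z J d K) (h' : Inc z J w L) (m : w ∈ qOf d) : d ∈ qOf w := by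
  by_cases n : w = d
  · exact n ▸ m
  · exact (h.nw h' m n).zs

theorem frame (h : Inc z J d K) : ∃ a : Fin 3 → Bool → G, a 0 false = d ∧
    (∀ i b, Inc z J (a i b) K) ∧ (∀ i j b c, i ≠ j → NW (a i b) (a j c)) ∧
    (∀ i, a i true ∉ qOf (a i false)) ∧ ∀ x ∈ K, (∀ i b, x ∈ qOf (a i b)) → x = 1 := by
  obtain ⟨s, Φ, S, D, rfl⟩ := h.fl
  obtain ⟨τ, a, b, ⟨g, e, -⟩, -⟩ := D.exists_τ
  have hτ : Inc z J τ (S.J 0) := ⟨h.H, h.cz.trans (isConj_iff.2 ⟨g, e⟩), h.cJ, a⟩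
  have b' : d ∉ qOf τ := fun c => b (hτ.symm_mem h c)
  have k : ∀ j l, ∃ x ∈ qOf d, S.π x = pu 0 j l ∧ x ∈ qOf τ := fun j l => by
    obtain ⟨x, hx, f⟩ := S.π_surj (pu 0 j l)
    by_cases c : x ∈ qOf τ
    · exact ⟨x, hx, f, c⟩
    · exact ⟨_, mul_mem hx S.pre.mem, (S.π_mul_z hx).trans f,
        hτ.idx _ (D.P_le 0 ⟨hx, _, f⟩) _ h.mem c b'⟩
  choose x hx f m using k
  have n := fun j l => D.nw_of_pu (hx j l) (f j l)
  have I := fun j l => h.of_nw (n j l) (D.P_le 0 ⟨hx j l, _, f j l⟩)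
  have n' := fun j l => hτ.nw (I j l) (m j l) fun c => b (c ▸ hx j l)
  have o : ∀ j l j' l', InE (ρ8 (tr3 0, tr3 j, tr3 l)⁻¹ (pu 0 j' l')) → pu 0 j' l' ≠ pu 0 j l →
      NW (x j l) (x j' l') := fun j l j' l' p q => (I j l).nw (I j' l')
    ((D.mem_Q_pu (hx j l) (hx j' l') (f j l)).2 (f j' l' ▸ p)) fun c => q (by rw [← f, c, f])
  refine ⟨![(cond · τ d), (cond · (x 1 1) (x 0 0)), (cond · (x 1 0) (x 0 1))], rfl, fun i b => ?_,
    fun i j b c ne => ?_, fun i => ?_, fun y hy q => ?_⟩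
  · fin_cases i <;> cases b <;> first | exact h | exact hτ | exact I _ _
  · fin_cases i <;> fin_cases j <;> (try exact (ne rfl).elim) <;> cases b <;> cases c <;> first
      | exact n _ _ | exact (n _ _).symm | exact n' _ _ | exact (n' _ _).symm
      | exact o _ _ _ _ (by decide +kernel) (by decide)
  · fin_cases i
    · exact b
    all_goals
      exact fun c => absurd ((D.mem_Q_pu (hx _ _) (hx _ _) (f _ _)).1 c) (by rw [f]; decide +kernel)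
  have y0 : y ∈ qOf d := q 0 false
  obtain ⟨-, u, r⟩ := D.memP_of_J hy y0
  have := fun i b j l (e : _ = x j l) => (D.mem_Q_pu (hx j l) y0 (f j l)).1 (e ▸ q i b)
  have t : ∀ u, InE (ρ8 (tr3 0, tr3 0, tr3 0)⁻¹ (ten 0 u)) →
      InE (ρ8 (tr3 0, tr3 1, tr3 1)⁻¹ (ten 0 u)) → InE (ρ8 (tr3 0, tr3 0, tr3 1)⁻¹ (ten 0 u)) →
      InE (ρ8 (tr3 0, tr3 1, tr3 0)⁻¹ (ten 0 u)) → ten 0 u = 0 := by decide +kernel
  rw [r] at this
  refine ((S.π_eq_zero' y0).1 (r.trans (t u (this 1 false _ _ rfl) (this 1 true _ _ rfl)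
    (this 2 false _ _ rfl) (this 2 true _ _ rfl)))).resolve_right fun c => b' (c ▸ q 0 true)

theorem noncomm (h : Inc z J a K) (h' : Inc z J a L) (n : K ≠ L) (hb : b ∈ K) (hc : c ∈ L)
    (nb : b ∉ qOf a) (nc : c ∉ qOf a) : b * c ≠ c * b := fun e => by
  have := h'.meet (h'.cj' (h.comm hb h.mem)) (h.move h' n hb nb).symm hc (by
    simpa [e] using cj_mem (g := b) hc)
  rcases this with rfl | rfl
  exacts [nc (one_mem _), nc h.pre.mem]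

theorem tri (h : Inc z J a K) (h' : Inc z J a L) (k : Inc z J b K) (k' : Inc z J b M)
    (l : Col z J L M) (n1 : K ≠ L) (n2 : K ≠ M) (n3 : L ≠ M) (n : b ≠ a) : NW a b := by
  obtain ⟨c, l, l'⟩ := l
  by_contra e
  have nb : b ∉ qOf a := fun m => e (h.nw k m n)
  have nc : c ∈ qOf a := by
    by_contra nc
    exact h.noncomm h' n1 k.mem l.mem nb nc (k'.comm k'.mem l'.mem)
  obtain ⟨x, p, -, q, r⟩ := h'.plane (h.nw l nc fun e => n (h.uniq (e ▸ l') n2 k k'.mem)) l.mem h l'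
    n1 n3.symm
  exact e (k.uniq k' n2 q r.mem ▸ p)

theorem third (h : Inc z J d K) (h' : Inc z J d L) (h'' : Inc z J d M) (n : K ≠ L)
    (k : Col z J F K) (k' : Col z J F L) : Col z J F M := by
  by_cases e : F = K
  · exact ⟨d, e ▸ h, h''⟩
  by_cases e' : F = L
  · exact ⟨d, e' ▸ h', h''⟩
  by_cases e'' : M = K
  · exact e'' ▸ k
  obtain ⟨a, p, q⟩ := k
  by_cases f : a = d
  · exact ⟨d, f ▸ p, h''⟩
  obtain ⟨x, -, -, r, s⟩ := h.plane (h.tri h' q p k'.symm n (Ne.symm e) (Ne.symm e') f) q.mem h'' p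
    e'' e
  exact ⟨x, s, r⟩

theorem trace1 (n : ¬ Col z J K F) (h : Inc z J d K) (h' : Inc z J d L) (k : Col z J L F)
    (hw : NW d w) (m : w ∈ K) : ∃ M, Inc z J w M ∧ Col z J M F := by
  have nL : L ≠ K := fun e => n (e ▸ k)
  have hK := h.of_nw hw m
  obtain ⟨a, p, q⟩ := k
  have na : a ∉ qOf d := fun c => by
    obtain ⟨x, -, -, r, s⟩ := h'.plane (h.nw p c fun e => n ⟨d, h, e ▸ q⟩) p.mem h q nL.symm
      fun e => n ⟨d, h, e ▸ h'⟩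
    exact n ⟨x, r, s⟩
  have key : ∀ {x M}, NW d x → Inc z J x L → Inc z J x M → Inc z J w M → x ∈ qOf a →
      ∃ M, Inc z J w M ∧ Col z J M F := fun {x M} r s t u v => by
    obtain ⟨y, -, -, i, j⟩ := p.plane (p.nw s v fun e => na (e ▸ r.mem)) s.mem q t
      (fun e => n ⟨d, h, e ▸ h'⟩) fun e => hw.ne (h.uniq h' nL.symm hK (e ▸ u.mem))
    exact ⟨M, u, y, j, i⟩
  obtain ⟨M, hM, nM⟩ := hK.other
  obtain ⟨x, r, -, s, t⟩ := h.plane hw m h' hM nL nM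
  by_cases c : x ∈ qOf a
  · exact key r s t hM c
  obtain ⟨g, ⟨g1, g2⟩, e⟩ := h.pre.exists_conj_centralizing (W := K ⊓ qOf d) inf_le_right
    ⟨h.mem, h.pre.mem⟩ r.mem fun c => r.ne (h.uniq h' nL.symm (h.of_nw r c.1) s.mem)
  refine key r.mul (h'.of_nw r.mul (mul_mem h'.mem s.mem)) (e ▸ t.cj g)
    (hM.cj' (g2 w ⟨m, hw.mem⟩).symm) (p.idx _ h'.mem _ s.mem (fun c => na (p.symm_mem h c)) c)

theorem trace (n : ¬ Col z J K F) (k : Col z J K L) (k' : Col z J L F) (h : Inc z J w K) :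
    ∃ M, Inc z J w M ∧ Col z J M F := by
  obtain ⟨d, p, q⟩ := k
  by_cases e : w = d
  · exact ⟨L, e ▸ q, k'⟩
  by_cases c : w ∈ qOf d
  · exact trace1 n p q k' (p.nw h c e) h.mem
  have key : ∀ {x}, NW d x → x ∈ K → x ∈ qOf w → ∃ M, Inc z J w M ∧ Col z J M F := fun r s t => by
    obtain ⟨M, u, v⟩ := trace1 n p q k' r s
    exact trace1 n (p.of_nw r s) u v (h.nw u t fun e => c (e ▸ r.mem)).symm h.mem
  obtain ⟨a, rfl, a1, a2, -⟩ := p.frame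
  have r := a2 0 1 false false (by decide)
  by_cases f : a 1 false ∈ qOf w
  · exact key r (a1 _ _).mem f
  · exact key r.mul (mul_mem p.mem (a1 _ _).mem)
      (h.idx _ p.mem _ (a1 _ _).mem (fun e => c (h.symm_mem p e)) f)

theorem regular (h : Inc z J d K) (n : ¬ Col z J K F) (k : Col z J K L) (k' : Col z J L F)
    (hx : x ∈ K) (e : MulAut.conj x • F = F) : x = 1 := by
  obtain ⟨a, -, a1, -, -, a2⟩ := h.frame
  refine a2 x hx fun i b => by_contra fun c => ?_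
  obtain ⟨M, u, v⟩ := trace n k k' (a1 i b)
  exact n (u.third (u.cj' (h.comm hx (a1 i b).mem)) (a1 i b)
    ((a1 i b).move u (fun e => n (e ▸ v)) hx c).symm v.symm (e ▸ v.symm.cj x)).symm

end Inc

end Cfsg.Lib.LX
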