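import Cfsg.Agent.LX.Fm
import Cfsg.Agent.Block.FongRed
import Cfsg.Agent.FT.BG3.CFix
import Cfsg.Agent.Bender.TwoRank

/-!
# A Frobenius group of order `21` normalizing a singular subgroup of order `8`
-/

set_option autoImplicit false

namespace Cfsg.Lib.LX

open Subgroup Cfsg.Lib.Local Cfsg.Lib.Solv Module Cfsg.Lib.Spor
open scoped Pointwise commutatorElement

universe u

variable {G : Type u} [Group G] [Finite G]

omit [Finite G] in
theorem exists_odd_pow {C : Subgroup G} (hC : IsPGroup 2 C) {g : G} {n : ℕ} (hn : Odd n)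
    (e : g ^ n ∈ C) : ∃ m, (g ^ m) ^ n = 1 ∧ g⁻¹ * g ^ m ∈ C := by
  obtain ⟨k, hk⟩ := hC ⟨g ^ n, e⟩
  replace hk : (g ^ n) ^ 2 ^ k = 1 := congrArg Subtype.val hk
  have h1 := (Nat.ModEq.pow_totient (Nat.coprime_two_left.2 hn)).pow k
  have h2 : 0 < n.totient := Nat.totient_pos.2 hn.pos
  refine ⟨(2 ^ n.totient) ^ k, ?_, ?_⟩
  · obtain ⟨j, hj⟩ : 2 ^ k ∣ (2 ^ n.totient) ^ k := pow_dvd_pow_of_dvd (dvd_pow_self _ h2.ne') _
    rw [← pow_mul, mul_comm, pow_mul, hj, pow_mul, hk, one_pow]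
  · rw [one_pow] at h1
    obtain ⟨j, hj⟩ := (Nat.modEq_iff_dvd' (Nat.one_le_pow _ _ (by positivity))).1 h1.symm
    rw [show (2 ^ n.totient) ^ k = n * j + 1 by
      have : 1 ≤ (2 ^ n.totient) ^ k := Nat.one_le_pow _ _ (by positivity)
      omega, pow_succ', inv_mul_cancel_left, pow_mul]
    exact Subgroup.pow_mem _ e _

/-- Independent triples of elements of an elementary abelian group. -/
def Ind3 (a b c : G) : Prop := a ≠ 1 ∧ b ≠ 1 ∧ b ≠ a ∧ c ≠ 1 ∧ c ≠ a ∧ c ≠ b ∧ c ≠ a * b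

theorem exists_basis_map {U : Subgroup G} (h : Singular U) {a b c a' b' c' : G} (ha : a ∈ U)
    (hb : b ∈ U) (hc : c ∈ U) (ha' : a' ∈ U) (hb' : b' ∈ U) (hc' : c' ∈ U) (i : Ind3 a b c)
    (i' : Ind3 a' b' c') : ∃ g ∈ normalizer (U : Set G),
      g * a * g⁻¹ = a' ∧ g * b * g⁻¹ = b' ∧ g * c * g⁻¹ = c' := by
  obtain ⟨i1, i2, i3, i4, i5, i6, i7⟩ := i
  obtain ⟨j1, j2, j3, j4, j5, j6, j7⟩ := i'
  have o := orderOf_eq_two_of j1 (h.sq _ ha')
  obtain ⟨q₁, ⟨h1, -⟩, e1⟩ := h.exists_move bot_le ha ha' i1 j1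
  replace h1 := h.iSup_le_normalizer h1
  obtain ⟨q₂, ⟨h2, c2⟩, e2⟩ := h.exists_move (Subgroup.zpowers_le.2 ha')
    (conj_mem_of_mem_normalizer h1 hb) hb' (by
      rw [mem_zpowers_iff_of_orderOf_two o, ← e1]; simp [i2, i3])
    (by rw [mem_zpowers_iff_of_orderOf_two o]; simp [j2, j3])
  replace h2 := h.iSup_le_normalizer h2
  have f2 : q₂ * a' * q₂⁻¹ = a' := by rw [← c2 a' (mem_zpowers _), mul_inv_cancel_right]
  have e1' : q₂ * q₁ * a * (q₂ * q₁)⁻¹ = a' := by rw [← f2, ← e1]; group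
  have e2' : q₂ * q₁ * b * (q₂ * q₁)⁻¹ = b' := by rw [← e2]; group
  obtain ⟨q₃, ⟨h3, c3⟩, e3⟩ := h.exists_move (W := closure {a', b'})
    ((closure_le _).2 (by rintro _ (rfl | rfl) <;> assumption))
    (conj_mem_of_mem_normalizer (mul_mem h2 h1) hc) hc' (fun k => by
      have := Bender.mem_closure_pair_of_commute (h.sq _ ha') (h.sq _ hb') (h.comm ha' hb') k
      rw [← e1', ← e2', conj_mul] at this
      generalize q₂ * q₁ = y at this
      simp [i4, i5, i6, i7] at this)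
    (fun k => by
      have := Bender.mem_closure_pair_of_commute (h.sq _ ha') (h.sq _ hb') (h.comm ha' hb') k
      tauto)
  refine ⟨q₃ * (q₂ * q₁), mul_mem (h.iSup_le_normalizer h3) (mul_mem h2 h1), ?_, ?_, ?_⟩
  · rw [show q₃ * (q₂ * q₁) * a * (q₃ * (q₂ * q₁))⁻¹ = q₃ * (q₂ * q₁ * a * (q₂ * q₁)⁻¹) * q₃⁻¹ by
      group, e1', ← c3 a' (subset_closure (by simp)), mul_inv_cancel_right]
  · rw [show q₃ * (q₂ * q₁) * b * (q₃ * (q₂ * q₁))⁻¹ = q₃ * (q₂ * q₁ * b * (q₂ * q₁)⁻¹) * q₃⁻¹ by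
      group, e2', ← c3 b' (subset_closure (by simp)), mul_inv_cancel_right]
  · rw [← e3]; group

theorem exists_frob {z s t : G} (h : Singular (closure {z, s, t})) (i : Ind3 z s t)
    (hC : IsPGroup 2 (centralizer (closure ({z, s, t} : Set G) : Set G))) :
    ∃ σ ∈ normalizer (closure ({z, s, t} : Set G) : Set G),
      ∃ d ∈ normalizer (closure ({z, s, t} : Set G) : Set G), σ ^ 7 = 1 ∧ d ^ 3 = 1 ∧
      d ∈ normalizer (zpowers σ : Set G) ∧ σ * z * σ⁻¹ = s ∧ σ * s * σ⁻¹ = t ∧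
      σ * t * σ⁻¹ = z * s ∧ d * z * d⁻¹ = z ∧ d * s * d⁻¹ = t ∧ d * t * d⁻¹ = s * t := by
  set U := closure ({z, s, t} : Set G)
  have hz : z ∈ U := subset_closure (by simp)
  have hs : s ∈ U := subset_closure (by simp)
  have ht : t ∈ U := subset_closure (by simp)
  have zz := h.sq z hz
  have ss := h.sq s hs
  have tt := h.sq t ht
  have sz := h.comm hs hz
  have tz := h.comm ht hz
  have ts := h.comm ht hs
  have zz' : ∀ x, z * (z * x) = x := fun x => by rw [← mul_assoc, zz, one_mul]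
  have ss' : ∀ x, s * (s * x) = x := fun x => by rw [← mul_assoc, ss, one_mul]
  have tt' : ∀ x, t * (t * x) = x := fun x => by rw [← mul_assoc, tt, one_mul]
  have sz' : ∀ x, s * (z * x) = z * (s * x) := fun x => by rw [← mul_assoc, sz, mul_assoc]
  have tz' : ∀ x, t * (z * x) = z * (t * x) := fun x => by rw [← mul_assoc, tz, mul_assoc]
  have ts' : ∀ x, t * (s * x) = s * (t * x) := fun x => by rw [← mul_assoc, ts, mul_assoc]
  obtain ⟨i1, i2, i3, i4, i5, i6, i7⟩ := id i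
  have mC : ∀ g : G, g * z * g⁻¹ = z → g * s * g⁻¹ = s → g * t * g⁻¹ = t →
      g ∈ centralizer (U : Set G) := fun g a b c => by
    rw [centralizer_closure]
    rintro _ (rfl | rfl | rfl) <;> exact (mul_inv_eq_iff_eq_mul.1 ‹_›).symm
  have cC : ∀ {g k : G}, g⁻¹ * k ∈ centralizer (U : Set G) → ∀ u ∈ U,
      k * u * k⁻¹ = g * u * g⁻¹ := fun {g k} e u hu => by
    rw [show k * u * k⁻¹ = g * (g⁻¹ * k * u) * k⁻¹ by group, ← e u hu]; group
  have cj : ∀ (g x : G) (n : ℕ), g ^ (n + 1) * x * (g ^ (n + 1))⁻¹ =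
      g ^ n * (g * x * g⁻¹) * (g ^ n)⁻¹ := fun g x n => by rw [pow_succ]; group
  obtain ⟨a, ha, a1, a2, a3⟩ := exists_basis_map h hz hs ht hs ht (mul_mem hz hs) i
    ⟨i2, i4, i6, fun k => i3 (mul_left_cancel (k.trans zz.symm)), by simpa using i1,
      i7.symm, fun k => i5 (by rw [← sz] at k; exact (mul_left_cancel k).symm)⟩
  obtain ⟨b, hb, b1, b2, b3⟩ := exists_basis_map h hz hs ht hz ht (mul_mem hs ht) i
    ⟨i1, i4, i5, fun k => i6 (mul_left_cancel (k.trans ss.symm)),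
      fun k => i7 (by rw [← sz, ← k, ss']), by simpa using i2,
      fun k => i3 (mul_right_cancel k)⟩
  obtain ⟨m, hm, hm'⟩ := exists_odd_pow hC (g := a) (n := 7) (by decide) (by
    refine mC _ ?_ ?_ ?_ <;>
      simp only [cj, a1, a2, a3, ← conj_mul, pow_zero, one_mul, inv_one, mul_one] <;>
      simp only [mul_assoc, zz, ss, tt, sz, tz, ts, zz', ss', tt', sz', tz', ts', mul_one])
  set σ := a ^ m
  have s1 : σ * z * σ⁻¹ = s := by rw [cC hm' z hz, a1]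
  have s2 : σ * s * σ⁻¹ = t := by rw [cC hm' s hs, a2]
  have s3 : σ * t * σ⁻¹ = z * s := by rw [cC hm' t ht, a3]
  have hσ : σ ∈ normalizer (U : Set G) := Subgroup.pow_mem _ ha _
  have o7 : ∀ x : G, x ^ 7 = 1 → ¬ 2 ∣ orderOf x := fun x hx k =>
    absurd (k.trans (orderOf_dvd_of_pow_eq_one hx)) (by decide)
  have hr : b * σ * b⁻¹ * (σ ^ 2)⁻¹ ∈ centralizer (U : Set G) := by
    have key : ∀ u v : G, b * σ * u * (b * σ)⁻¹ = v → σ ^ 2 * b * u * (σ ^ 2 * b)⁻¹ = v →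
        b * σ * b⁻¹ * (σ ^ 2)⁻¹ * v * (b * σ * b⁻¹ * (σ ^ 2)⁻¹)⁻¹ = v := fun u v e1 e2 => by
      conv_lhs => rw [← e2]
      rw [← e1]; group
    have l1 : ∀ u, b * σ * u * (b * σ)⁻¹ = b * (σ * u * σ⁻¹) * b⁻¹ := fun u => by group
    have l2 : ∀ u, σ ^ 2 * b * u * (σ ^ 2 * b)⁻¹ = σ * (σ * (b * u * b⁻¹) * σ⁻¹) * σ⁻¹ :=
      fun u => by rw [pow_two]; group
    refine mC _ (key (z * t) _ ?_ ?_) (key (z * s) _ ?_ ?_) (key z _ ?_ ?_) <;>
      simp only [l1, l2, s1, s2, s3, b1, b2, b3, ← conj_mul] <;>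
      simp only [mul_assoc, zz, ss, tt, sz, tz, ts, zz', ss', tt', sz', tz', ts', mul_one]
  obtain ⟨x, hx, e⟩ := Block.exists_conj_of_regular_coset hC
    (normalizer_le_normalizer_centralizer U (Subgroup.pow_mem _ hσ 2)) hr
    (o7 _ (by rw [← pow_mul, mul_comm, pow_mul, hm, one_pow]))
    (o7 _ (by rw [inv_mul_cancel_right, conj_pow, hm]; simp))
  rw [inv_mul_cancel_right] at e
  have xc : ∀ u ∈ U, x * b * u * (x * b)⁻¹ = b * u * b⁻¹ := fun u hu => by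
    rw [show x * b * u * (x * b)⁻¹ = x * (b * u * b⁻¹) * x⁻¹ by group,
      ← hx _ (conj_mem_of_mem_normalizer hb hu), mul_inv_cancel_right]
  obtain ⟨k, hk, hk'⟩ := exists_odd_pow hC (g := x * b) (n := 3) (by decide) (by
    have c1 := (xc z hz).trans b1
    have c2 := (xc s hs).trans b2
    have c3 := (xc t ht).trans b3
    generalize x * b = y at c1 c2 c3
    refine mC _ ?_ ?_ ?_ <;>
      simp only [cj, c1, c2, c3, ← conj_mul, pow_zero, one_mul, inv_one, mul_one] <;>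
      simp only [mul_assoc, zz, ss, tt, sz, tz, ts, zz', ss', tt', sz', tz', ts', mul_one])
  refine ⟨σ, hσ, (x * b) ^ k, Subgroup.pow_mem _ (mul_mem (centralizer_le_normalizer _ hx) hb) _,
    hm, hk, Subgroup.pow_mem _ (mem_normalizer_fintype fun y hy => ?_) _, s1, s2, s3,
    by rw [cC hk' z hz, xc z hz, b1], by rw [cC hk' s hs, xc s hs, b2],
    by rw [cC hk' t ht, xc t ht, b3]⟩
  obtain ⟨j, rfl⟩ := mem_zpowers_iff.1 hy
  rw [← conj_zpow, show x * b * σ * (x * b)⁻¹ = x * (b * σ * b⁻¹) * x⁻¹ by group, e]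
  exact zpow_mem (Subgroup.pow_mem _ (mem_zpowers σ) 2) _

theorem wielandt21 {σ d : G} (h7 : σ ^ 7 = 1) (h3 : d ^ 3 = 1) (d1 : d ≠ 1)
    (hn : d ∈ normalizer (zpowers σ : Set G)) (hc : d * σ ≠ σ * d) {Y : Subgroup G}
    (hY : IsPGroup 2 Y) (hσ : σ ∈ normalizer (Y : Set G)) (hd : d ∈ normalizer (Y : Set G)) :
    Nat.card Y ≤ Nat.card ↥(Y ⊓ centralizer ({d} : Set G)) ^ 3 *
      Nat.card ↥(Y ⊓ centralizer ({σ} : Set G)) := by
  have : Fact (Nat.Prime 7) := ⟨by decide⟩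
  have : Fact (Nat.Prime 3) := ⟨by decide⟩
  have o3 : orderOf d = 3 := orderOf_eq_prime h3 d1
  have o7 : orderOf σ = 7 := orderOf_eq_prime h7 fun k => hc (by simp [k])
  have gen : ∀ {g x : G} {p : ℕ}, p.Prime → orderOf g = p → x ∈ zpowers g → x ≠ 1 →
      g ∈ zpowers x := fun {g x p} hp o hx x1 => by
    have : Fact p.Prime := ⟨hp⟩
    have := zpowers_eq_top_of_prime_card (G := zpowers g) (by rw [Nat.card_zpowers, o])
      (g := ⟨x, hx⟩) fun k => x1 (congrArg Subtype.val k)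
    obtain ⟨j, hj⟩ := mem_zpowers_iff.1 (this ▸ mem_top (⟨g, mem_zpowers g⟩ : zpowers g))
    exact ⟨j, congrArg Subtype.val hj⟩
  obtain ⟨k, hk⟩ := IsPGroup.iff_card.1 hY
  have := FT.Frobenius_Wielandt_fixpoint (K := zpowers σ) (R := zpowers d) (M := Y)
    (Subgroup.zpowers_le.2 hn) (fun x hx x1 => eq_bot_iff.2 fun y ⟨hy, hy'⟩ => by
      by_contra y1
      obtain ⟨i, rfl⟩ := gen Nat.prime_three o3 hx x1
      obtain ⟨j, rfl⟩ := gen (by decide) o7 hy y1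
      exact hc ((Commute.zpow_zpow (mem_C.1 hy') j i).symm))
    (have := hY.isNilpotent; inferInstance) (Subgroup.zpowers_le.2 hσ) (Subgroup.zpowers_le.2 hd)
    (by rw [hk, Nat.card_zpowers, o7]; exact Nat.Coprime.pow_left _ (by decide))
    (by rw [hk, Nat.card_zpowers, o3]; exact Nat.Coprime.pow_left _ (by decide))
  rw [Nat.card_zpowers, o3, centralizer_zpowers_eq_sing, centralizer_zpowers_eq_sing] at this
  rw [← this]
  exact Nat.le_mul_of_pos_left _ (pow_pos Nat.card_pos _)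

end Cfsg.Lib.LX
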