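import Cfsg.Agent.LX.Frob

/-!
# Centralizer quotients inside `S₃ × S₆`, I
-/

set_option autoImplicit false

namespace Cfsg.Lib.LX

open Subgroup Cfsg.Lib.Local Cfsg.Lib.Solv Module Cfsg.Lib.Spor Equiv Equiv.Perm
open scoped Pointwise commutatorElement

universe u

theorem isConj_of_support {n : ℕ} {p : ℕ} [hp : Fact p.Prime] {a b : Perm (Fin n)}
    (ha : a ^ p = 1) (hb : b ^ p = 1) (h : a.support.card = b.support.card) : IsConj a b := by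
  rw [isConj_iff_cycleType_eq, Multiset.eq_replicate_card.2 (pow_prime_eq_one_iff.1 ha),
    Multiset.eq_replicate_card.2 (pow_prime_eq_one_iff.1 hb)]
  rw [← sum_cycleType, ← sum_cycleType, Multiset.eq_replicate_card.2 (pow_prime_eq_one_iff.1 ha),
    Multiset.eq_replicate_card.2 (pow_prime_eq_one_iff.1 hb), Multiset.sum_replicate,
    Multiset.sum_replicate, smul_eq_mul, smul_eq_mul] at h
  rw [Nat.eq_of_mul_eq_mul_right hp.out.pos h]

theorem dvd_support {n : ℕ} {p : ℕ} [hp : Fact p.Prime] {a : Perm (Fin n)} (ha : a ^ p = 1) :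
    p ∣ a.support.card ∧ a.support.card ≤ n := by
  refine ⟨?_, by simpa using Finset.card_le_univ a.support⟩
  rw [← sum_cycleType, Multiset.eq_replicate_card.2 (pow_prime_eq_one_iff.1 ha),
    Multiset.sum_replicate, smul_eq_mul]
  exact dvd_mul_left _ _

theorem s6_inv {c : Perm (Fin 6)} (h2 : c * c = 1) (h1 : c ≠ 1) (hs : sign c = 1) :
    ∃ g₁ g₂ : Perm (Fin 6), sign g₁ = 1 ∧ sign g₂ = 1 ∧ g₁⁻¹ * c * g₁ * c = c * (g₁⁻¹ * c * g₁) ∧
      g₂⁻¹ * c * g₂ * c = c * (g₂⁻¹ * c * g₂) ∧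
      g₁ * c * g₁⁻¹ * (g₂ * c * g₂⁻¹) ≠ g₂ * c * g₂⁻¹ * (g₁ * c * g₁⁻¹) := by
  rw [← pow_two] at h2
  obtain ⟨⟨k, hk⟩, h6⟩ := dvd_support h2
  have h0 : c.support.card ≠ 0 := by simpa using h1
  have sg : ∀ {a : Perm (Fin 6)}, IsConj a c → sign a = 1 := fun h => by
    obtain ⟨g, rfl⟩ := isConj_iff.1 h
    simpa [mul_comm, mul_left_comm] using hs
  obtain rfl | rfl | rfl : k = 1 ∨ k = 2 ∨ k = 3 := by omega
  · exact absurd (sg (isConj_of_support (a := swap 0 1) (by decide) h2 (by rw [hk]; decide)))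
      (by decide)
  · obtain ⟨g, rfl⟩ := isConj_iff.1 (isConj_of_support (a := swap 0 1 * swap 2 3) (by decide) h2
      (by rw [hk]; decide))
    have key : ∀ a b : Perm (Fin 6), (g * a * g⁻¹)⁻¹ * (g * b * g⁻¹) * (g * a * g⁻¹) =
      g * (a⁻¹ * b * a) * g⁻¹ := fun a b => by group
    have key' : ∀ a b : Perm (Fin 6), (g * a * g⁻¹) * (g * b * g⁻¹) * (g * a * g⁻¹)⁻¹ =
      g * (a * b * a⁻¹) * g⁻¹ := fun a b => by group
    refine ⟨g * (swap 1 2 * swap 2 3) * g⁻¹, g * (swap 0 2 * swap 2 4 * (swap 1 3 * swap 3 5)) * g⁻¹,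
      by simp, by simp, ?_, ?_, ?_⟩ <;>
      simp only [key, key'] <;>
      simp only [conj_mul, ne_eq, mul_left_inj, mul_right_inj] <;> decide
  · exact absurd (sg (isConj_of_support (a := swap 0 1 * swap 2 3 * swap 4 5) (by decide) h2
      (by rw [hk]; decide))) (by decide)

theorem s6_three_aux : ∀ y : Perm (Fin 6), (y * (swap 0 1 * swap 1 2) = swap 0 1 * swap 1 2 * y ∨
    y * (swap 0 1 * swap 1 2 * (swap 3 4 * swap 4 5)) =
      swap 0 1 * swap 1 2 * (swap 3 4 * swap 4 5) * y) → sign y = 1 → y * y * y = 1 := by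
  decide +kernel

theorem s6_three {k y : Perm (Fin 6)} (h3 : k ^ 3 = 1) (h1 : k ≠ 1) (hc : y * k = k * y)
    (hs : sign y = 1) : y ^ 3 = 1 := by
  have : Fact (Nat.Prime 3) := ⟨by decide⟩
  obtain ⟨⟨j, hj⟩, h6⟩ := dvd_support h3
  have h0 : k.support.card ≠ 0 := by simpa using h1
  have key : ∀ a, IsConj a k → (∀ y : Perm (Fin 6), y * a = a * y → sign y = 1 → y * y * y = 1) →
      y ^ 3 = 1 := fun a h ha => by
    obtain ⟨g, rfl⟩ := isConj_iff.1 h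
    have := ha (g⁻¹ * y * g) (by
      rw [show g⁻¹ * y * g * a = g⁻¹ * (y * (g * a * g⁻¹)) * g by group, hc]; group)
      (by simpa [mul_comm, mul_left_comm] using hs)
    rw [show y ^ 3 = g * (g⁻¹ * y * g * (g⁻¹ * y * g) * (g⁻¹ * y * g)) * g⁻¹ by
      simp only [pow_succ, pow_zero]; group, this]; group
  obtain rfl | rfl : j = 1 ∨ j = 2 := by omega
  · exact key _ (isConj_of_support (by decide) h3 (by rw [hj]; decide))
      fun y h => s6_three_aux y (Or.inl h)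
  · exact key _ (isConj_of_support (by decide) h3 (by rw [hj]; decide))
      fun y h => s6_three_aux y (Or.inr h)

/-- A generator of `A₃`. -/
def ζ₀ : Perm (Fin 3) := swap 0 1 * swap 1 2

theorem s3_facts : ζ₀ ^ 3 = 1 ∧ ζ₀ ≠ 1 ∧ sign ζ₀ = 1 ∧
    (∀ τ : Perm (Fin 3), ⁅ζ₀, τ⁆ * ⁅ζ₀, τ⁆ = 1 → ⁅ζ₀, τ⁆ = 1) ∧
    (∀ τ, sign τ = 1 → τ ^ 3 = 1 ∧ τ * ζ₀ = ζ₀ * τ) ∧
    (∀ τ : Perm (Fin 3), τ ^ 3 = 1 → τ = 1 ∨ τ = ζ₀ ∨ τ = ζ₀ * ζ₀) ∧
    ∀ τ β : Perm (Fin 3), τ ^ 3 = 1 → sign β ≠ 1 → ⁅τ, β⁆ ^ 3 = 1 ∧ (⁅τ, β⁆ = 1 → τ = 1) := by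
  simp only [commutatorElement_def]
  refine ⟨by decide, by decide, by decide, by decide +kernel, by decide, by decide,
    by decide +kernel⟩

variable {G : Type u} [Group G] {V : Type*} [AddCommGroup V] [Module (ZMod 2) V]

/-- The setting: `C(z) / Q` lies between `A₃ × A₆` and `S₃ × S₆`. -/
structure H36 {z : G} (Φ : Fm z (Perm (Fin 3) × Perm (Fin 6))) (ζ : G) : Prop where
  surj : ∀ p, sign p = 1 → ∃ g ∈ centralizer ({z} : Set G), Φ.F g = (1, p)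
  mem : ζ ∈ centralizer ({z} : Set G)
  three : ζ ^ 3 = 1
  eq : Φ.F ζ = (ζ₀, 1)

/-- The centralizer of `ζ` modulo `Q`. -/
def Fm.K {z : G} (Φ : Fm z (Perm (Fin 3) × Perm (Fin 6))) : Subgroup G where
  carrier := {g | g ∈ centralizer ({z} : Set G) ∧ sign (Φ.F g).1 = 1}
  one_mem' := ⟨one_mem _, by simp [Φ.one]⟩
  mul_mem' := fun {a b} ha hb => ⟨mul_mem ha.1 hb.1, by simp [Φ.mul _ ha.1 _ hb.1, ha.2, hb.2]⟩
  inv_mem' := fun {a} ha => ⟨inv_mem ha.1, by simp [Φ.inv ha.1, ha.2]⟩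

theorem Fm.idx {z : G} (Φ : Fm z (Perm (Fin 3) × Perm (Fin 6))) {T : Subgroup G}
    (hT : T ≤ centralizer ({z} : Set G)) : IdxLeTwo Φ.K T := fun a ha b hb h1 h2 => by
  refine ⟨mul_mem (hT ha) (hT hb), ?_⟩
  rw [Φ.mul _ (hT ha) _ (hT hb), Prod.fst_mul, map_mul,
    (Int.units_eq_one_or _).resolve_left fun k => h1 ⟨hT ha, k⟩,
    (Int.units_eq_one_or _).resolve_left fun k => h2 ⟨hT hb, k⟩]
  rfl

/-- The `𝔽₄`-line through a vector. -/
def Sh.W {Q : Subgroup G} {z : G} (S : Sh Q z V) (ζ : G) (u v : V) : Prop :=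
  ∃ c₃ c₄ : ZMod 2, v = c₃ • S.ρ ζ u + c₄ • u

namespace H36

variable {z s ζ : G} {Φ : Fm z (Perm (Fin 3) × Perm (Fin 6))} (H : H36 Φ ζ)
  (S : Sh (qOf z) z V)
include H

theorem comm {g : G} (hg : g ∈ Φ.K) : Φ.F g * Φ.F ζ = Φ.F ζ * Φ.F g := by
  rw [H.eq]
  exact Prod.ext (s3_facts.2.2.2.2.1 _ hg.2).2 (by simp)

theorem ρ_ρ {g : G} (hg : g ∈ Φ.K) (v : V) : S.ρ g (S.ρ ζ v) = S.ρ ζ (S.ρ g v) :=
  Φ.ρ_comm S hg.1 H.mem (H.comm hg) v

theorem N_ρ {g : G} (hg : g ∈ Φ.K) (v : V) : S.N g (S.ρ ζ v) = S.ρ ζ (S.N g v) :=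
  Φ.N_ρ_comm S hg.1 H.mem (H.comm hg) v

theorem memK : ζ ∈ Φ.K := ⟨H.mem, by rw [H.eq]; exact s3_facts.2.2.1⟩

theorem ρ3 (v : V) : S.ρ ζ (S.ρ ζ (S.ρ ζ v)) = v := by
  rw [← S.ρ_mul H.mem H.mem, ← S.ρ_mul (mul_mem H.mem H.mem) H.mem, ← pow_three', H.three, S.ρ_one]

variable [Finite G] [Finite V]

omit [Finite V] in
theorem move (h : NW z s) : S.ρ ζ (S.π s) ≠ S.π s := fun c => by
  have hs := h.cent_of_odd S H.mem (S.N_eq_zero.2 c) (by decide) H.three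
  have := h.eq_one_of_odd S H.mem hs (by decide) H.three fun a ha => by
    have h1 : ⁅ζ, a⁆ ∈ BB z s := mul_mem (NW.B_conj' H.mem hs ha) (inv_mem ha)
    have h2 := (Φ.mul_mem_iff h1.2 h1.2).1 (h.sq_mem h1)
    rw [← Φ.ker _ h1.2]
    rw [Φ.comm H.mem ha.2, H.eq] at h2 ⊢
    exact Prod.ext (s3_facts.2.2.2.1 _ (congrArg Prod.fst h2)) (by simp [commutatorElement_def])
  have e := H.eq
  rw [this, Φ.one] at e
  exact s3_facts.2.1 (congrArg Prod.fst e).symm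

theorem t1 (h : NW z s) (hV : finrank (ZMod 2) V = 8) : T1 S s := by
  refine (h.dichotomy S hV).resolve_left fun T => ?_
  obtain ⟨x, hx⟩ := h.exists_v S
  obtain ⟨a, ha, b, hb, aK, bK, n1, n2, n3⟩ := h.exists_two S hV (Φ.idx fun _ => B2)
  have key : ∀ a ∈ BB z s, a ∈ Φ.K → a ∉ qOf z → S.N a x + S.ρ ζ (S.π s) ∈ S.E s := by
    intro a ha aK n
    obtain ⟨y, hy⟩ : ∃ y, S.N a y = S.π s := by
      by_contra! c
      exact n (S.mem_of_perp_sing ha.2 (h.q_s S) fun v hv => (T a ha v hv).resolve_right (c v))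
    rw [← hy, ← H.N_ρ S aK]
    rcases z2_cases (S.b (S.ρ ζ y) (S.π s)) with c | c
    · rcases T a ha _ c with k | k <;> rw [H.N_ρ S aK, hy] at k
      exacts [(h.π_ne S ((S.ρ_eq_zero H.mem).1 k)).elim, (H.move S h k).elim]
    · rw [← map_add]
      exact h.N_perp S ha (by rw [map_add, LinearMap.add_apply, hx, c]; rfl)
  refine n3 (h.inj S (mul_mem ha hb) hx ?_)
  convert add_mem (h.θ_mul S ha hb x) (add_mem (key a ha aK n1) (key b hb bK n2)) using 1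
  apply z2_eq
  match_scalars <;> decide

theorem kerW (h : NW z s) (hV : finrank (ZMod 2) V = 8) {a b : G} (ha : a ∈ BB z s)
    (hb : b ∈ BB z s) (aK : a ∈ Φ.K) (bK : b ∈ Φ.K) (n1 : a ∉ qOf z) (n2 : b ∉ qOf z)
    (n3 : a * b ∉ qOf z) : S.ρ ζ (S.π s) ∈ S.E s ∧
      ∀ v, S.N a v = 0 → S.N b v = 0 → S.W ζ (S.π s) v := by
  obtain ⟨w, hw, k⟩ := (H.t1 S h hV).two a ha b hb n1 n2 n3
  obtain ⟨c₃, c₄, e⟩ := k (S.ρ ζ (S.π s))
    (by rw [H.N_ρ S aK, h.N_s S ha.2 (h.B_le ha), map_zero])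
    (by rw [H.N_ρ S bK, h.N_s S hb.2 (h.B_le hb), map_zero])
  refine ⟨e ▸ add_mem (Submodule.smul_mem _ _ hw) (Submodule.smul_mem _ _ (h.s_mem_E S)),
    fun v h1 h2 => ?_⟩
  rcases z2_cases c₃ with rfl | rfl
  · rcases z2_cases c₄ with rfl | rfl
    · exact (h.π_ne S ((S.ρ_eq_zero H.mem).1 (by simpa using e))).elim
    · exact (H.move S h (by simpa using e)).elim
  obtain ⟨d₃, d₄, rfl⟩ := k v h1 h2
  refine ⟨d₃, d₄ + d₃ * c₄, ?_⟩
  rw [e]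
  have two : (2 : ZMod 2) = 0 := rfl
  match_scalars
  · ring
  · linear_combination (-d₃ * c₄) * two

theorem ρs_mem (h : NW z s) (hV : finrank (ZMod 2) V = 8) : S.ρ ζ (S.π s) ∈ S.E s := by
  obtain ⟨a, ha, b, hb, aK, bK, n1, n2, n3⟩ := h.exists_two S hV (Φ.idx fun _ => B2)
  exact (H.kerW S h hV ha hb aK bK n1 n2 n3).1

theorem fpf (h : NW z s) (hV : finrank (ZMod 2) V = 8) {v : V} (hv : S.ρ ζ v = v) : v = 0 := by
  obtain ⟨a, ha, b, hb, aK, bK, n1, n2, n3⟩ := h.exists_two S hV (Φ.idx fun _ => B2)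
  have k := (H.kerW S h hV ha hb aK bK n1 n2 n3).2
  have m := H.move S h
  have key : ∀ v, S.ρ ζ v = v → S.N a v = 0 → S.N b v = 0 → v = 0 := fun v hv h1 h2 => by
    obtain ⟨c₃, c₄, rfl⟩ := k v h1 h2
    rcases z2_cases c₃ with rfl | rfl <;> rcases z2_cases c₄ with rfl | rfl <;>
      simp only [zero_smul, one_smul, zero_add, add_zero, map_add] at hv ⊢
    · exact (m hv).elim
    · exact (m (S.ρ_inj H.mem hv)).elim
    · rw [add_comm, add_right_inj] at hv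
      refine (m ?_).elim
      conv_lhs => rw [← hv, H.ρ3]
  have f : ∀ g ∈ Φ.K, ∀ v, S.ρ ζ v = v → S.ρ ζ (S.N g v) = S.N g v := fun g hg v hv => by
    rw [← H.N_ρ S hg, hv]
  have e1 := key _ (f a aK _ (f b bK v hv)) (h.N_N S ha _)
    (by rw [h.N_comm S hb ha, h.N_N S hb, map_zero])
  have e2 := key _ (f b bK v hv) e1 (h.N_N S hb _)
  exact key v hv (key _ (f a aK v hv) (h.N_N S ha _) (by rw [h.N_comm S hb ha, e1])) e2

theorem ρρ (h : NW z s) (hV : finrank (ZMod 2) V = 8) (v : V) :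
    S.ρ ζ (S.ρ ζ v) = S.ρ ζ v + v := by
  rw [← add_eq_zero']
  refine H.fpf S h hV ?_
  rw [map_add, map_add, H.ρ3]
  abel

theorem W_ρ (h : NW z s) (hV : finrank (ZMod 2) V = 8) {u v : V} (hv : S.W ζ u v) :
    S.W ζ u (S.ρ ζ v) := by
  obtain ⟨c₃, c₄, rfl⟩ := hv
  exact ⟨c₃ + c₄, c₃, by rw [map_add, map_smul, map_smul, H.ρρ S h hV]; module⟩

theorem W_of_ρ (h : NW z s) (hV : finrank (ZMod 2) V = 8) {u v : V} (hv : S.W ζ u (S.ρ ζ v)) :
    S.W ζ u v := H.ρ3 S v ▸ H.W_ρ S h hV (H.W_ρ S h hV hv)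

theorem exists_pow (h : NW z s) (hV : finrank (ZMod 2) V = 8) {u v : V} (hv : S.W ζ u v)
    (h0 : v ≠ 0) : ∃ j : ℕ, v = S.ρ (ζ ^ j) u := by
  obtain ⟨c₃, c₄, rfl⟩ := hv
  rcases z2_cases c₃ with rfl | rfl <;> rcases z2_cases c₄ with rfl | rfl
  · simp at h0
  · exact ⟨0, by simp [S.ρ_one]⟩
  · exact ⟨1, by simp⟩
  · exact ⟨2, by rw [pow_two, S.ρ_mul H.mem H.mem, H.ρρ S h hV]; simp⟩

/-- A second conjugate of `z` in the intersection of the extraspecial groups. -/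
theorem exists_second (h : NW z s) (hV : finrank (ZMod 2) V = 8) {c : G} (hc : c ∈ BB z s)
    (cK : c ∈ Φ.K) (n : c ∉ qOf z) (hs : sign (Φ.F c).2 = 1) :
    ∃ t, NW z t ∧ t ∈ qOf s ∧ S.N c (S.π t) = 0 ∧ ¬ S.W ζ (S.π s) (S.π t) := by
  have T := H.t1 S h hV
  have c2 := (Φ.mul_mem_iff hc.2 hc.2).1 (h.sq_mem hc)
  have c1 : (Φ.F c).1 = 1 := eq_one_of_odd_of_pow (m := 1) (by decide)
    (s3_facts.2.2.2.2.1 _ cK.2).1 (by rw [pow_one, pow_two]; exact congrArg Prod.fst c2)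
  have mK : ∀ {g p}, g ∈ centralizer ({z} : Set G) → Φ.F g = (1, p) → g ∈ Φ.K :=
    fun hg e => ⟨hg, by simp [e]⟩
  obtain ⟨g, hg, gK, h1, h2⟩ : ∃ g ∈ centralizer ({z} : Set G), g ∈ Φ.K ∧
      S.N c (S.ρ g (S.π s)) = 0 ∧ ¬ S.W ζ (S.π s) (S.ρ g (S.π s)) := by
    by_contra! k
    obtain ⟨g₁, g₂, s1, s2, e1, e2, e3⟩ := s6_inv (c := (Φ.F c).2) (congrArg Prod.snd c2)
      (fun e => n ((Φ.ker c hc.2).1 (Prod.ext c1 e))) hs
    have key : ∀ p : Perm (Fin 6), sign p = 1 →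
        p⁻¹ * (Φ.F c).2 * p * (Φ.F c).2 = (Φ.F c).2 * (p⁻¹ * (Φ.F c).2 * p) →
        ∃ β ∈ BB z s, (Φ.F β).2 = p * (Φ.F c).2 * p⁻¹ := fun p sp e => by
      obtain ⟨g, hg, eg⟩ := H.surj p sp
      have gK := mK hg eg
      have tK : g⁻¹ * c * g⁻¹⁻¹ ∈ Φ.K := mul_mem (mul_mem (inv_mem gK) cK) (inv_mem (inv_mem gK))
      have w1 := k _ tK.1 tK (by
        rw [Φ.N_ρ_comm S hc.2 tK.1 (by
          rw [Φ.conj (inv_mem hg) hc.2, Φ.inv hg, eg]
          exact Prod.ext (by simp [c1]) (by simpa using e.symm)),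
          h.N_s S hc.2 (h.B_le hc), map_zero])
      have t2 : ∀ v, S.ρ (g⁻¹ * c * g⁻¹⁻¹) (S.ρ (g⁻¹ * c * g⁻¹⁻¹) v) = v := fun v => by
        rw [← S.ρ_mul tK.1 tK.1, conj_mul, S.ρ_of_mem (S.conj_mem (inv_mem hg) (h.sq_mem hc))]
      have w2 : S.ρ (g⁻¹ * c * g⁻¹⁻¹) (S.π s) = S.π s := by
        have t3 := t2 (S.π s)
        obtain ⟨c₃, c₄, e⟩ := w1
        rw [e, map_add, map_smul, map_smul, H.ρ_ρ S tK, e, map_add, map_smul, map_smul,
          H.ρρ S h hV] at t3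
        rcases z2_cases c₃ with rfl | rfl <;> rcases z2_cases c₄ with rfl | rfl <;>
          simp only [zero_smul, one_smul, zero_add, add_zero] at e t3
        · exact (h.π_ne S t3.symm).elim
        · exact e
        · exact (h.π_ne S ((S.ρ_eq_zero H.mem).1 (by simpa using t3))).elim
        · refine (H.move S h (Eq.trans ?_ t3)).elim
          apply z2_eq
          match_scalars <;> decide
      have w3 := k g hg gK (by
        have := S.N_conj hg tK.1 (S.π s)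
        rw [show g * (g⁻¹ * c * g⁻¹⁻¹) * g⁻¹ = c by group] at this
        rw [this, S.N_eq_zero.2 w2, map_zero])
      obtain ⟨j, hj⟩ := H.exists_pow S h hV w3 (by
        rw [Ne, S.ρ_eq_zero hg]; exact h.π_ne S)
      have zj := Subgroup.pow_mem _ H.mem j
      have hg' := mul_mem (inv_mem zj) hg
      obtain ⟨x, hx, hx'⟩ := h.exists_cent S hg' (by
        rw [S.N_eq_zero, S.ρ_mul (inv_mem zj) hg, hj, S.ρ_inv_ρ zj])
      have m := mul_mem hg' (qOf_le z hx)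
      refine ⟨_, NW.B_conj' m hx' hc, ?_⟩
      rw [Φ.conj m hc.2, Φ.mul _ hg' _ (qOf_le z hx), Φ.of_mem hx, Φ.mul _ (inv_mem zj) _ hg,
        Φ.inv zj, Φ.pow H.mem, H.eq, eg]
      simp
    obtain ⟨β₁, b1, f1⟩ := key g₁ s1 e1
    obtain ⟨β₂, b2, f2⟩ := key g₂ s2 e2
    exact e3 (by rw [← f1, ← f2]; exact congrArg Prod.snd ((Φ.comm_iff b1.2 b2.2).1
      (h.comm_mem b1 b2)))
  obtain ⟨e₀, he₀, k₀⟩ := T.move c hc n
  have kk : ∀ u v, S.N c u = 0 → S.N c v = 0 → S.b u v = 0 := fun u v hu hv => by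
    have a1 := LinearMap.finrank_range_add_finrank_ker (S.N c)
    have a2 := T.dimK c hc n
    have := Submodule.eq_of_le_of_finrank_le (S.range_le_ker hc.2 (h.sq_mem hc)) (by omega)
    obtain ⟨w, rfl⟩ : u ∈ LinearMap.range (S.N c) := this ▸ hu
    exact S.b_N_fix hc.2 hv w
  have fin : ∀ j : ℕ, S.b e₀ (S.ρ (ζ ^ j) (S.ρ g (S.π s))) = 0 →
      ∃ t, NW z t ∧ t ∈ qOf s ∧ S.N c (S.π t) = 0 ∧ ¬ S.W ζ (S.π s) (S.π t) := fun j hj => by
    have zj := Subgroup.pow_mem _ H.mem j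
    have m := mul_mem zj hg
    have w := h.conj' m
    have e : S.π (ζ ^ j * g * s * (ζ ^ j * g)⁻¹) = S.ρ (ζ ^ j) (S.ρ g (S.π s)) := by
      rw [← S.ρ_π _ m s h.mem, S.ρ_mul zj hg]
    have a1 : S.N c (S.ρ (ζ ^ j) (S.ρ g (S.π s))) = 0 := by
      rw [Φ.N_ρ_comm S hc.2 zj (by rw [Φ.pow H.mem]; exact (Commute.pow_right (H.comm cK) j).eq),
        h1, map_zero]
    refine ⟨_, w, (h.mem_E S w.mem).1 ?_, e ▸ a1, e ▸ fun k => h2 ?_⟩
    · rw [e]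
      refine h.mem_E_of_perp S hV T.dimE fun f hf => ?_
      rcases h.N_E S hc hf with k | k
      · exact kk _ _ k a1
      · have := kk (f + e₀) _ (by rw [map_add, k, k₀, add_self']) a1
        rwa [map_add, LinearMap.add_apply, hj, add_zero] at this
    · clear e a1 w m hj
      induction j with
      | zero => rwa [pow_zero, S.ρ_one] at k
      | succ j ih =>
        rw [pow_succ', S.ρ_mul H.mem (Subgroup.pow_mem _ H.mem j)] at k
        exact ih (Subgroup.pow_mem _ H.mem j) (H.W_of_ρ S h hV k)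
  rcases z2_cases (S.b e₀ (S.ρ g (S.π s))) with a1 | a1
  · exact fin 0 (by rwa [pow_zero, S.ρ_one])
  rcases z2_cases (S.b e₀ (S.ρ ζ (S.ρ g (S.π s)))) with a2 | a2
  · exact fin 1 (by rwa [pow_one])
  · exact fin 2 (by rw [pow_two, S.ρ_mul H.mem H.mem, H.ρρ S h hV, map_add, a1, a2]; rfl)

end H36

end Cfsg.Lib.LX
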