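import Cfsg.Agent.LX.S36a
import Cfsg.Agent.Block.ZStar

/-!
# Centralizer quotients inside `S₃ × S₆`, II
-/

set_option autoImplicit false

namespace Cfsg.Lib.LX

open Subgroup Cfsg.Lib.Local Cfsg.Lib.Solv Module Cfsg.Lib.Spor Equiv Equiv.Perm
open scoped Pointwise commutatorElement

universe u

variable {G : Type u} [Group G] [Finite G] {V : Type*} [AddCommGroup V] [Module (ZMod 2) V]

theorem NW.mem_mul {z s x : G} (h : NW z s) (h1 : x ∈ qOf z) (h2 : x ∈ qOf s) :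
    x ∈ qOf (z * s) :=
  (h.mul.mem_E (shOf h.pre) h1).1 (by rw [h.E_mul]; exact (h.mem_E _ h1).2 h2)

theorem singular_closure {z : G} (h : PreLX (qOf z) z) {T : Set G}
    (hT : ∀ u ∈ T, IsConj z u ∧ ∀ v ∈ T, v ∈ qOf u) : Singular (closure T) := by
  have key : ∀ u ∈ closure T, u ≠ 1 → IsConj z u ∧ closure T ≤ qOf u := by
    intro u hu
    induction hu using closure_induction with
    | mem u hu => exact fun _ => ⟨(hT u hu).1, (closure_le _).2 (hT u hu).2⟩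
    | one => exact fun e => absurd rfl e
    | mul a b ha hb iha ihb =>
      intro h3
      by_cases e1 : a = 1
      · rw [e1, one_mul] at h3 ⊢; exact ihb h3
      by_cases e2 : b = 1
      · rw [e2, mul_one] at h3 ⊢; exact iha h3
      have p := h.qOf_of_conj (isConj_iff.1 (iha e1).1)
      have w : NW a b := ⟨p, (iha e1).1.symm.trans (ihb e2).1, (iha e1).2 hb,
        fun e => h3 (by rw [e]; exact p.mul_self)⟩
      exact ⟨(iha e1).1.trans w.mul.cj, fun x hx => w.mem_mul ((iha e1).2 hx) ((ihb e2).2 hx)⟩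
    | inv a ha ih =>
      intro h3
      have e1 : a ≠ 1 := fun e => h3 (by rw [e, inv_one])
      rw [inv_eq_of_mul_eq_one_right (h.qOf_of_conj (isConj_iff.1 (ih e1).1)).mul_self]
      exact ih e1
  refine singular_of h (fun u hu => ?_) (fun u hu h1 => isConj_iff.1 (key u hu h1).1)
    fun u hu v hv h1 _ => (key u hu h1).2 hv
  by_cases e : u = 1
  · simp [e]
  · exact (h.qOf_of_conj (isConj_iff.1 (key u hu e).1)).mul_self

theorem isPGroup_two_of_odd {C : Subgroup G}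
    (h : ∀ k ∈ C, ∀ n, Odd n → k ^ n = 1 → k = 1) : IsPGroup 2 C := fun g => by
  obtain ⟨m, n, hn, e⟩ := Nat.exists_eq_two_pow_mul_odd (orderOf_pos (g : G)).ne'
  exact ⟨m, Subtype.ext (h ((g : G) ^ 2 ^ m) (C.pow_mem g.2 _) n hn
    (by rw [← pow_mul, ← e, pow_orderOf_eq_one]))⟩

omit [Finite G] in
theorem idx_cent {Q : Subgroup G} {s t : G} (h : SympPair Q s) (ht : t ∈ Q) {B : Subgroup G}
    (hB : B ≤ Q) : IdxLeTwo (centralizer ({t} : Set G)) B := fun a ha b hb h1 h2 => by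
  have e1 := (h.comm_or (hB ha) ht).resolve_left fun e => h1 (mem_C.2 e)
  have e2 := (h.comm_or (hB hb) ht).resolve_left fun e => h2 (mem_C.2 e)
  rw [mem_C, ← mul_inv_eq_iff_eq_mul,
    show a * b * t * (a * b)⁻¹ = a * (b * t * b⁻¹) * a⁻¹ by group, e2,
    show a * (s * t) * a⁻¹ = a * s * a⁻¹ * (a * t * a⁻¹) by group, e1, h.central a (hB ha),
    mul_inv_cancel_right, ← mul_assoc, h.mul_self, one_mul]

/-- The configuration of three conjugates of `z`. -/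
structure D36 {z : G} (Φ : Fm z (Perm (Fin 3) × Perm (Fin 6))) (ζ : G) (S : Sh (qOf z) z V)
    (s t c : G) : Prop where
  H : H36 Φ ζ
  hV : finrank (ZMod 2) V = 8
  hs : NW z s
  ht : NW z t
  ts : t ∈ qOf s
  cB : c ∈ BB z s
  cK : c ∈ Φ.K
  cQ : c ∉ qOf z
  c2 : sign (Φ.F c).2 = 1
  Nc : S.N c (S.π t) = 0
  nW : ¬ S.W ζ (S.π s) (S.π t)

theorem H36.exists_d36 [Finite V] {z s ζ : G} {Φ : Fm z (Perm (Fin 3) × Perm (Fin 6))}
    (H : H36 Φ ζ) (S : Sh (qOf z) z V) (h : NW z s) (hV : finrank (ZMod 2) V = 8) :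
    ∃ t c, D36 Φ ζ S s t c := by
  obtain ⟨a, ha, b, hb, aK, bK, n1, n2, n3⟩ := h.exists_two S hV (Φ.idx fun _ => B2)
  obtain ⟨c, hc, cK, n, e⟩ : ∃ c ∈ BB z s, c ∈ Φ.K ∧ c ∉ qOf z ∧ sign (Φ.F c).2 = 1 := by
    rcases Int.units_eq_one_or (sign (Φ.F a).2) with e1 | e1
    · exact ⟨a, ha, aK, n1, e1⟩
    rcases Int.units_eq_one_or (sign (Φ.F b).2) with e2 | e2
    · exact ⟨b, hb, bK, n2, e2⟩
    exact ⟨a * b, mul_mem ha hb, mul_mem aK bK, n3, by
      rw [Φ.mul _ ha.2 _ hb.2, Prod.snd_mul, map_mul, e1, e2]; rfl⟩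
  obtain ⟨t, h1, h2, h3, h4⟩ := H.exists_second S h hV hc cK n e
  exact ⟨t, c, H, hV, h, h1, h2, hc, cK, n, e, h3, h4⟩

namespace D36

variable [Finite V] {z ζ s t c : G} {Φ : Fm z (Perm (Fin 3) × Perm (Fin 6))} {S : Sh (qOf z) z V}
  (D : D36 Φ ζ S s t c)
include D

omit [Finite G] [Finite V] in
theorem π_ne : S.π t ≠ S.π s := fun e => D.nW ⟨0, 1, by simp [e]⟩

omit [Finite G] [Finite V] in
theorem nst : NW s t := ⟨D.hs.ps, D.hs.cj.symm.trans D.ht.cj, D.ts, fun e => D.π_ne (by rw [e])⟩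

omit [Finite V] in
theorem sing : Singular (closure {z, s, t}) := singular_closure D.hs.pre (by
  rintro _ (rfl | rfl | rfl)
  · refine ⟨IsConj.refl _, ?_⟩
    rintro _ (rfl | rfl | rfl)
    exacts [D.hs.pre.mem, D.hs.mem, D.ht.mem]
  · refine ⟨D.hs.cj, ?_⟩
    rintro _ (rfl | rfl | rfl)
    exacts [D.hs.zs, D.hs.ps.mem, D.ts]
  · refine ⟨D.ht.cj, ?_⟩
    rintro _ (rfl | rfl | rfl)
    exacts [D.ht.zs, D.nst.zs, D.ht.ps.mem])

omit [Finite G] [Finite V] in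
theorem ind : Ind3 z s t := ⟨D.hs.pre.ne_one, D.hs.ps.ne_one, D.hs.ne, D.ht.ps.ne_one, D.ht.ne,
  D.nst.ne, fun e => D.π_ne (by rw [e, S.π_z_mul D.hs.mem])⟩

theorem cases {γ : G} (hγ : γ ∈ BB z s) (hK : γ ∈ Φ.K) (hN : S.N γ (S.π t) = 0) :
    Φ.F γ = 1 ∨ Φ.F γ = Φ.F c := by
  by_contra! k
  refine D.nW ((D.H.kerW S D.hs D.hV D.cB hγ D.cK hK D.cQ (fun e => k.1 (Φ.of_mem e))
    fun e => k.2 ?_).2 _ D.Nc hN)
  rw [Φ.mul_mem_iff D.cB.2 hγ.2, ← (Φ.mul_mem_iff D.cB.2 D.cB.2).1 (D.hs.sq_mem D.cB)] at e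
  exact mul_left_cancel e

omit [Finite G] [Finite V] D in
theorem memC {g : G} : g ∈ centralizer (closure ({z, s, t} : Set G) : Set G) ↔
    g ∈ centralizer ({z} : Set G) ∧ g ∈ centralizer ({s} : Set G) ∧
      g ∈ centralizer ({t} : Set G) := by
  simp [centralizer_closure, mem_centralizer_iff]

theorem pgrp : IsPGroup 2 (centralizer (closure ({z, s, t} : Set G) : Set G)) := by
  refine isPGroup_two_of_odd fun k hk n hn e => ?_
  obtain ⟨kz, ks, kt⟩ := memC.1 hk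
  have tE := (D.hs.mem_E S D.ht.mem).2 D.ts
  have c2 := (Φ.mul_mem_iff D.cB.2 D.cB.2).1 (D.hs.sq_mem D.cB)
  have key : ∀ β ∈ BB z s, Φ.F k * Φ.F β * (Φ.F k)⁻¹ = Φ.F β ∨
      Φ.F k * Φ.F β * (Φ.F k)⁻¹ = Φ.F c * Φ.F β := fun β hβ => by
    have h1 := NW.B_conj' kz ks hβ
    have h2 : S.N (k * β * k⁻¹) (S.π t) = S.N β (S.π t) := by
      have := S.N_conj kz hβ.2 (S.π t)
      rw [S.N_eq_zero.1 (D.ht.N_s S kz kt)] at this
      rcases D.hs.N_E S hβ tE with e | e <;> rw [this, e]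
      exacts [map_zero _, S.N_eq_zero.1 (D.hs.N_s S kz ks)]
    have := D.cases (mul_mem h1 (inv_mem hβ)) ⟨mul_mem h1.2 (inv_mem hβ.2), by
      rw [← commutatorElement_def, Φ.comm kz hβ.2]
      simp [commutatorElement_def, mul_comm, mul_left_comm]⟩ (by
      rw [S.N_mul h1.2 (inv_mem hβ.2), S.N_inv_of_sq hβ.2 (D.hs.sq_mem hβ), h2, add_self',
        zero_add]
      rcases D.hs.N_E S hβ tE with e | e <;> rw [e]
      exacts [map_zero _, D.hs.N_s S h1.2 (D.hs.B_le h1)])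
    rwa [Φ.mul _ h1.2 _ (inv_mem hβ.2), Φ.conj kz hβ.2, Φ.inv hβ.2, mul_inv_eq_one,
      mul_inv_eq_iff_eq_mul (c := Φ.F c)] at this
  have kc : Φ.F k * Φ.F c * (Φ.F k)⁻¹ = Φ.F c := (key c D.cB).resolve_right fun e => D.cQ (by
    rw [c2, mul_inv_eq_one, mul_eq_left] at e
    exact (Φ.ker c D.cB.2).1 e)
  refine D.hs.eq_one_of_odd S kz ks hn e fun β hβ => (Φ.comm_iff kz hβ.2).2 ?_
  have h2 : Commute (Φ.F k ^ 2) (Φ.F β) := by
    rw [Commute, SemiconjBy, ← mul_inv_eq_iff_eq_mul, show Φ.F k ^ 2 * Φ.F β * (Φ.F k ^ 2)⁻¹ =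
      Φ.F k * (Φ.F k * Φ.F β * (Φ.F k)⁻¹) * (Φ.F k)⁻¹ by rw [pow_two]; group]
    rcases key β hβ with e | e
    · rw [e, e]
    · rw [e, ← conj_mul, kc, e, ← mul_assoc, c2, one_mul]
  obtain ⟨m, rfl⟩ := hn
  have h3 : Φ.F k = ((Φ.F k ^ 2) ^ m)⁻¹ := by
    rw [eq_inv_iff_mul_eq_one, ← pow_mul, ← pow_succ', ← Φ.pow kz, e, Φ.one]
  rw [h3]
  exact (h2.pow_left m).inv_left.eq

theorem sgn : ∃ i : ℕ, ∀ y ∈ BB z s, S.N y (S.π t) = 0 →
    sign (Φ.F y).2 = sign (Φ.F y).1 ^ i := by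
  have k1 : ∀ y ∈ BB z s, S.N y (S.π t) = 0 → sign (Φ.F y).1 = 1 → sign (Φ.F y).2 = 1 :=
    fun y hy h1 h2 => by
      rcases D.cases hy ⟨hy.2, h2⟩ h1 with e | e <;> rw [e]
      exacts [map_one _, D.c2]
  by_cases h : ∀ y ∈ BB z s, S.N y (S.π t) = 0 → sign (Φ.F y).2 = 1
  · exact ⟨0, by simpa using h⟩
  push Not at h
  obtain ⟨x, hx, x1, x2⟩ := h
  have x3 := (Int.units_eq_one_or _).resolve_left fun e => x2 (k1 x hx x1 e)
  refine ⟨1, fun y hy y1 => ?_⟩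
  rw [pow_one]
  rcases Int.units_eq_one_or (sign (Φ.F y).1) with e | e
  · rw [e, k1 y hy y1 e]
  · have := k1 _ (mul_mem hy hx) (by rw [S.N_mul hy.2 hx.2, x1, y1]; simp)
      (by rw [Φ.mul _ hy.2 _ hx.2, Prod.fst_mul, map_mul, e, x3]; rfl)
    rw [Φ.mul _ hy.2 _ hx.2, Prod.snd_mul, map_mul, (Int.units_eq_one_or _).resolve_left x2] at this
    rw [e, ← neg_inj, ← mul_neg_one, this]; rfl

theorem beta : ∃ β ∈ BB z s, β ∈ centralizer ({t} : Set G) ∧ sign (Φ.F β).1 ≠ 1 := by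
  by_contra! k
  obtain ⟨a, ha, b, hb, aK, bK, n1, n2, n3⟩ :=
    D.hs.exists_two S D.hV (idx_cent D.hs.ps.toSympPair D.ts inf_le_left)
  have key : ∀ a ∈ BB z s, a ∈ centralizer ({t} : Set G) → a ∉ qOf z → Φ.F a = Φ.F c :=
    fun a ha aK n => (D.cases ha ⟨ha.2, k a ha aK⟩ (D.ht.N_s S ha.2 aK)).resolve_left
      fun e => n ((Φ.ker a ha.2).1 e)
  refine n3 ((Φ.mul_mem_iff ha.2 hb.2).2 ?_)
  rw [key a ha aK n1, key b hb bK n2, ← Φ.mul_mem_iff D.cB.2 D.cB.2]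
  exact D.hs.sq_mem D.cB

theorem indep (c₁ c₂ c₃ c₄ : ZMod 2) (h : c₁ • S.π s + c₂ • S.ρ ζ (S.π s) + c₃ • S.π t +
    c₄ • S.ρ ζ (S.π t) = 0) : c₁ = 0 ∧ c₂ = 0 ∧ c₃ = 0 ∧ c₄ = 0 := by
  have w : S.W ζ (S.π s) (c₃ • S.π t + c₄ • S.ρ ζ (S.π t)) :=
    ⟨c₂, c₁, by rw [← add_eq_zero', ← h]; abel⟩
  rcases z2_cases c₃ with rfl | rfl <;> rcases z2_cases c₄ with rfl | rfl <;>
    simp only [zero_smul, one_smul, zero_add, add_zero] at w h
  · rcases z2_cases c₁ with rfl | rfl <;> rcases z2_cases c₂ with rfl | rfl <;>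
      simp only [zero_smul, one_smul, zero_add, add_zero] at h
    · simp
    · exact (D.hs.π_ne S ((S.ρ_eq_zero D.H.mem).1 h)).elim
    · exact (D.hs.π_ne S h).elim
    · exact (D.H.move S D.hs (add_eq_zero'.1 h).symm).elim
  · exact (D.nW (D.H.W_of_ρ S D.hs D.hV w)).elim
  · exact (D.nW w).elim
  · rw [add_comm, ← D.H.ρρ S D.hs D.hV] at w
    exact (D.nW (D.H.W_of_ρ S D.hs D.hV (D.H.W_of_ρ S D.hs D.hV w))).elim

theorem perp {v : V} (h1 : S.b (S.π s) v = 0) (h2 : S.b (S.ρ ζ (S.π s)) v = 0)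
    (h3 : S.b (S.π t) v = 0) (h4 : S.b (S.ρ ζ (S.π t)) v = 0) : ∃ c₁ c₂ c₃ c₄ : ZMod 2,
      v = c₁ • S.π s + c₂ • S.ρ ζ (S.π s) + c₃ • S.π t + c₄ • S.ρ ζ (S.π t) := by
  set X := Submodule.span (ZMod 2) {S.π s, S.ρ ζ (S.π s), S.π t, S.ρ ζ (S.π t)}
  have mp : ∀ v, S.b (S.π s) v = 0 → S.b (S.ρ ζ (S.π s)) v = 0 → S.b (S.π t) v = 0 →
      S.b (S.ρ ζ (S.π t)) v = 0 → v ∈ S.perp X := fun v a1 a2 a3 a4 => by
    refine S.mem_perp.2 fun u hu => ?_
    have : X ≤ LinearMap.ker (S.b.flip v) := Submodule.span_le.2 (by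
      rintro _ (rfl | rfl | rfl | rfl) <;> assumption)
    exact this hu
  have a1 := D.hs.s_mem_E S
  have a2 := D.H.ρs_mem S D.hs D.hV
  have a3 := (D.hs.mem_E S D.ht.mem).2 D.ts
  have b1 := (D.ht.mem_E S D.hs.mem).2 D.nst.zs
  have b3 := D.ht.s_mem_E S
  have b4 := D.H.ρs_mem S D.ht D.hV
  have e : S.b (S.ρ ζ (S.π s)) (S.ρ ζ (S.π t)) = 0 := by rw [S.b_ρ D.H.mem, D.hs.b_E S a1 a3]
  have d1 := (span_four (W := X) (Submodule.subset_span (by simp)) (Submodule.subset_span (by simp))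
    (Submodule.subset_span (by simp)) (Submodule.subset_span (by simp)) D.indep).1
  have d2 := S.finrank_perp X
  exact (span_four
    (mp _ (D.hs.b_E S a1 a1) (D.hs.b_E S a2 a1) (D.hs.b_E S a3 a1) (D.ht.b_E S b4 b1))
    (mp _ (D.hs.b_E S a1 a2) (D.hs.b_E S a2 a2) (D.hs.b_E S a3 a2) (by rw [S.b_comm, e]))
    (mp _ (D.hs.b_E S a1 a3) (D.hs.b_E S a2 a3) (D.hs.b_E S a3 a3) (D.ht.b_E S b4 b3))
    (mp _ (D.ht.b_E S b1 b4) e (D.ht.b_E S b3 b4) (D.ht.b_E S b4 b4)) D.indep).2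
    (by have := D.hV; omega) v (mp v h1 h2 h3 h4)

theorem E_ne : S.ρ ζ (S.π t) ∉ S.E s := fun a4 => by
  have T := D.H.t1 S D.hs D.hV
  obtain ⟨e, he, k⟩ := T.move c D.cB D.cQ
  obtain ⟨c₁, c₂, c₃, c₄, rfl⟩ := (span_four (D.hs.s_mem_E S) (D.H.ρs_mem S D.hs D.hV)
    ((D.hs.mem_E S D.ht.mem).2 D.ts) a4 D.indep).2 T.dimE.le e he
  have := D.hs.N_s S D.cB.2 (D.hs.B_le D.cB)
  simp only [map_add, map_smul, D.H.N_ρ S D.cK, this, D.Nc, map_zero, smul_zero, add_zero] at k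
  exact D.hs.π_ne S k.symm

theorem fpf {d : G} (dK : d ∈ Φ.K) (e1 : d * s * d⁻¹ = t) (e2 : d * t * d⁻¹ = s * t) {v : V}
    (hv : S.ρ d v = v) : v = 0 := by
  have r1 : S.ρ d (S.π s) = S.π t := by rw [S.ρ_π _ dK.1 _ D.hs.mem, e1]
  have r2 : S.ρ d (S.π t) = S.π s + S.π t := by
    rw [S.ρ_π _ dK.1 _ D.ht.mem, e2, S.π_mul _ D.hs.mem _ D.ht.mem]
  have n1 : S.N d (S.π t) = S.π s := by rw [S.N_apply, r2, add_add_cancel'']
  have n2 : S.N d (S.π s + S.π t) = S.π t := by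
    rw [map_add, n1, S.N_apply, r1, add_add_cancel'']
  have b := S.b_N_fix dK.1 (S.N_eq_zero.2 hv)
  obtain ⟨c₁, c₂, c₃, c₄, rfl⟩ := D.perp (v := v) (by rw [← n1, b])
    (by rw [← n1, ← D.H.N_ρ S dK, b]) (by rw [← n2, b]) (by rw [← n2, ← D.H.N_ρ S dK, b])
  simp only [map_add, map_smul, D.H.ρ_ρ S dK, r1, r2] at hv
  obtain ⟨a1, a2, a3, a4⟩ := D.indep (c₁ + c₃) (c₂ + c₄) c₁ c₂ (by
    rw [← add_eq_zero'.2 hv]
    have two : (2 : ZMod 2) = 0 := rfl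
    match_scalars
    · ring
    · ring
    · linear_combination (-c₃) * two
    · linear_combination (-c₄) * two)
  rw [a3, zero_add] at a1
  rw [a4, zero_add] at a2
  simp [a1, a2, a3, a4]

/-- The subgroup generated by the parts of the extraspecial groups centralizing `U`. -/
def _root_.Cfsg.Lib.LX.YU (U : Subgroup G) : Subgroup G :=
  closure {y | y ∈ centralizer (U : Set G) ∧ ∃ u ∈ U, u ≠ 1 ∧ y ∈ qOf u}

omit [Finite V] D in
theorem _root_.Cfsg.Lib.LX.YU_norm {U : Subgroup G} {g : G} (hg : g ∈ normalizer (U : Set G)) :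
    g ∈ normalizer (YU U : Set G) := by
  refine mem_normalizer_of_conj_mem fun y hy => ?_
  induction hy using closure_induction with
  | mem y hy =>
    obtain ⟨h1, u, hu, h2, h3⟩ := hy
    exact subset_closure ⟨conj_mem_of_mem_normalizer (normalizer_le_normalizer_centralizer U hg) h1,
      _, conj_mem_of_mem_normalizer hg hu, by simpa using h2, mem_qOf_conj h3⟩
  | one => simp
  | mul a b _ _ iha ihb => rw [← conj_mul]; exact mul_mem iha ihb
  | inv a _ ih => rw [← conj_inv]; exact inv_mem ih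

omit [Finite G] [Finite V] D in
theorem _root_.Cfsg.Lib.LX.YU_le (U : Subgroup G) : YU U ≤ centralizer (U : Set G) :=
  (closure_le _).2 fun _ h => h.1

theorem sgnY {y : G} (hy : y ∈ YU (closure {z, s, t})) (h : sign (Φ.F y).1 = 1) :
    sign (Φ.F y).2 = 1 := by
  obtain ⟨i, hi⟩ := D.sgn
  suffices sign (Φ.F y).2 = sign (Φ.F y).1 ^ i by rw [this, h, one_pow]
  clear h
  have cz : ∀ {y}, y ∈ YU (closure {z, s, t}) → y ∈ centralizer ({z} : Set G) :=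
    fun hy => (memC.1 (YU_le _ hy)).1
  induction hy using closure_induction with
  | mem y hy =>
    obtain ⟨h1, u, hu, h2, h3⟩ := hy
    by_cases e : u = z
    · rw [Φ.of_mem (e ▸ h3)]; simp
    obtain ⟨q, ⟨hq, qz⟩, e1⟩ := D.sing.exists_move (W := zpowers z) (b := u) (c := s)
      (zpowers_le.2 (subset_closure (by simp))) hu (subset_closure (by simp))
      (by rw [D.hs.pre.mem_iff]; tauto)
      (by rw [D.hs.pre.mem_iff]; exact fun k => k.elim D.ind.2.1 D.hs.ne)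
    rw [centralizer_zpowers_eq_sing] at qz
    obtain ⟨a1, -, a3⟩ := memC.1 (conj_mem_of_mem_normalizer
      (normalizer_le_normalizer_centralizer _ (D.sing.iSup_le_normalizer hq)) h1)
    have := hi _ ⟨e1 ▸ mem_qOf_conj h3, a1⟩ (D.ht.N_s S a1 a3)
    rw [Φ.conj qz (memC.1 h1).1] at this
    simpa [mul_comm, mul_left_comm] using this
  | one => simp [Φ.one]
  | mul a b ha hb iha ihb => simp [Φ.mul _ (cz ha) _ (cz hb), iha, ihb, mul_pow]
  | inv a ha ih => simp [Φ.inv (cz ha), ih]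

theorem card_Q : 2 ^ 7 ≤ Nat.card ↥(YU (closure {z, s, t}) ⊓ qOf z) := by
  set X := Submodule.span (ZMod 2) {S.π s, S.π t}
  have d1 : finrank (ZMod 2) X ≤ 2 := by
    classical
    exact (finrank_span_le_card _).trans (by simpa using Finset.card_le_two)
  have d2 := S.finrank_perp X
  have d3 := S.card_of_mem (U := S.pre' (S.perp X)) (fun _ h => h.1) (S.z_mem_pre' _)
  rw [S.img_pre'] at d3
  refine le_trans ?_ (card_le_of_le (H := S.pre' (S.perp X)) fun x hx => ⟨subset_closure ⟨memC.2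
    ⟨qOf_le z hx.1, mem_C.2 ((S.b_π _ hx.1 _ D.hs.mem).1 ?_), mem_C.2 ((S.b_π _ hx.1 _ D.ht.mem).1 ?_)⟩,
      z, subset_closure (by simp), D.ind.1, hx.1⟩, hx.1⟩)
  · rw [d3]; exact Nat.pow_le_pow_right two_pos (by have := D.hV; omega)
  all_goals exact S.mem_perp'.1 hx.2 _ (Submodule.subset_span (by simp))

theorem false : False := by
  obtain ⟨σ, hσ, d, hd, s7, d3, dn, s1, s2, s3, e0, e1, e2⟩ := exists_frob D.sing D.ind D.pgrp
  set U := closure ({z, s, t} : Set G)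
  have zU : z ∈ U := subset_closure (by simp)
  have sU : s ∈ U := subset_closure (by simp)
  have tU : t ∈ U := subset_closure (by simp)
  have cz : YU U ≤ centralizer ({z} : Set G) := fun _ hy => (memC.1 (YU_le _ hy)).1
  have hY : IsPGroup 2 (YU U) := D.pgrp.to_le (YU_le U)
  have dz : d ∈ centralizer ({z} : Set G) := mem_C.2 (mul_inv_eq_iff_eq_mul.1 e0)
  have f3 : Φ.F d ^ 3 = 1 := by rw [← Φ.pow dz, d3, Φ.one]
  have two : ∀ y ∈ YU U, ∃ m, Φ.F y ^ 2 ^ m = 1 := fun y hy => by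
    obtain ⟨m, hm⟩ := hY ⟨y, hy⟩
    exact ⟨m, by rw [← Φ.pow (cz hy), show y ^ 2 ^ m = 1 from congrArg Subtype.val hm, Φ.one]⟩
  have d2 : (Φ.F d).2 ≠ 1 := fun e => D.nW (by
    have r1 : S.ρ d (S.π s) = S.π t := by rw [S.ρ_π _ dz _ D.hs.mem, e1]
    rw [← r1]
    rcases s3_facts.2.2.2.2.2.1 _ (congrArg Prod.fst f3) with k | k | k
    · exact ⟨0, 1, by rw [Φ.ρ_congr S dz (one_mem _) (by rw [Φ.one]; exact Prod.ext k e), S.ρ_one]; simp⟩
    · exact ⟨1, 0, by rw [Φ.ρ_congr S dz D.H.mem (by rw [D.H.eq]; exact Prod.ext k e)]; simp⟩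
    · exact ⟨1, 1, by
        rw [Φ.ρ_congr S dz (mul_mem D.H.mem D.H.mem) (by
          rw [Φ.mul _ D.H.mem _ D.H.mem, D.H.eq]; exact Prod.ext k (by simpa using e)),
          S.ρ_mul D.H.mem D.H.mem, D.H.ρρ S D.hs D.hV]; simp⟩)
  have d1 : (Φ.F d).1 = 1 := by
    obtain ⟨β, hβ, βt, n⟩ := D.beta
    have bY : β ∈ YU U := subset_closure ⟨memC.2 ⟨hβ.2, D.hs.B_le hβ, βt⟩, s, sU, D.ind.2.1, hβ.1⟩
    obtain ⟨m, hm⟩ := two ⁅d, β⁆ (mul_mem (conj_mem_of_mem_normalizer (YU_norm hd) bY) (inv_mem bY))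
    rw [Φ.comm dz hβ.2] at hm
    have := s3_facts.2.2.2.2.2.2 _ _ (congrArg Prod.fst f3) n
    exact this.2 (eq_one_of_odd_of_pow (by decide) this.1 (congrArg Prod.fst hm))
  have dK : d ∈ Φ.K := ⟨dz, by rw [d1, map_one]⟩
  have hN : Nat.card ↥(YU U ⊓ centralizer ({d} : Set G)) ≤ 4 := by
    refine (card_le_two_mul _ (zpowers z) fun x hx y hy n1 n2 => ?_).trans ?_
    · have key : ∀ y ∈ YU U ⊓ centralizer ({d} : Set G), sign (Φ.F y).1 = 1 → y ∈ zpowers z :=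
        fun y hy h1 => by
          obtain ⟨m, hm⟩ := two y hy.1
          have c := mem_C.1 hy.2
          have yQ : y ∈ qOf z := (Φ.ker y (cz hy.1)).1 (Prod.ext
            (eq_one_of_odd_of_pow (by decide) (s3_facts.2.2.2.2.1 _ h1).1 (congrArg Prod.fst hm))
            (eq_one_of_odd_of_pow (by decide) (s6_three (congrArg Prod.snd f3) d2 (by
              have := congrArg (fun g => (Φ.F g).2) c
              simpa only [Φ.mul _ (cz hy.1) _ dz, Φ.mul _ dz _ (cz hy.1), Prod.snd_mul] using this)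
              (D.sgnY hy.1 h1)) (congrArg Prod.snd hm)))
          exact (S.π_eq_zero y yQ).1 (D.fpf dK e1 e2 (S.N_eq_zero.1 (S.N_π_of_comm dz yQ c.symm)))
      refine key _ (mul_mem (inv_mem hx) hy) ?_
      rw [Φ.mul _ (inv_mem (cz hx.1)) _ (cz hy.1), Φ.inv (cz hx.1), Prod.fst_mul, map_mul,
        Prod.fst_inv, sign_inv, (Int.units_eq_one_or _).resolve_left fun e => n1 (key x hx e),
        (Int.units_eq_one_or _).resolve_left fun e => n2 (key y hy e)]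
      rfl
    · have := card_le_of_le (inf_le_right : (YU U ⊓ centralizer ({d} : Set G)) ⊓ zpowers z ≤ _)
      rw [Nat.card_zpowers, D.hs.pre.ord] at this
      omega
  have σ1 : σ ≠ 1 := fun e => D.hs.ne (by rw [← s1, e]; simp)
  have fU : ∀ u ∈ U, u ∈ centralizer ({σ} : Set G) → u = 1 := fun u hu hc => by
    by_contra n
    obtain ⟨g, rfl⟩ := D.sing.cj z zU u hu D.ind.1 n
    have m : g⁻¹ * σ * g ∈ centralizer ({z} : Set G) := mem_C.2 (by
      rw [show g⁻¹ * σ * g * z = g⁻¹ * (σ * (g * z * g⁻¹)) * g by group, ← mem_C.1 hc]; group)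
    have p7 : (g⁻¹ * σ * g) ^ 7 = 1 := by
      rw [show g⁻¹ * σ * g = g⁻¹ * σ * g⁻¹⁻¹ by group, conj_pow, s7]; group
    have f1 : Φ.F (g⁻¹ * σ * g) = 1 := by
      have a1 : Φ.F (g⁻¹ * σ * g) ^ 7 = 1 := by rw [← Φ.pow m, p7, Φ.one]
      have a2 := pow_card_eq_one' (x := Φ.F (g⁻¹ * σ * g))
      rw [Nat.card_prod, Nat.card_perm, Nat.card_perm, Nat.card_fin, Nat.card_fin] at a2
      have a3 := pow_gcd_eq_one.2 ⟨a1, a2⟩
      rwa [show Nat.gcd 7 (Nat.factorial 3 * Nat.factorial 6) = 1 by decide, pow_one] at a3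
    have := eq_one_of_odd_of_pow (m := 2) (by decide) p7
      (SympPair.pow_four D.hs.pre.toSympPair ((Φ.ker _ m).1 f1))
    exact σ1 (by rw [show σ = g * (g⁻¹ * σ * g) * g⁻¹ by group, this]; group)
  have hO : YU U ⊓ centralizer ({σ} : Set G) ⊓ qOf z = ⊥ := by
    refine eq_bot_iff.2 fun y hy => by_contra fun n => D.E_ne ?_
    set R := YU U ⊓ centralizer ({σ} : Set G) ⊓ qOf z
    have k1 : ∀ y ∈ R, y ∈ qOf s ∧ y ∈ qOf t := fun y hy => by
      have c : σ * y * σ⁻¹ = y := by rw [← mem_C.1 hy.1.2, mul_inv_cancel_right]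
      have a : y ∈ qOf s := by rw [← s1, ← c]; exact mem_qOf_conj hy.2
      exact ⟨a, by rw [← s2, ← c]; exact mem_qOf_conj a⟩
    have k2 : ∀ y ∈ R, ∀ c₁ c₂ : ZMod 2, c₁ • S.π s + c₂ • S.π t + S.π y = 0 → y = 1 :=
      fun y hy c₁ c₂ e => fU y (S.mem_of_π_mem_img zU hy.2 (add_eq_zero'.1 e ▸ add_mem
        (Submodule.smul_mem _ _ (S.π_mem_img sU D.hs.mem))
        (Submodule.smul_mem _ _ (S.π_mem_img tU D.ht.mem)))) hy.1.2
    have hy' : d * y * d⁻¹ ∈ R := ⟨⟨conj_mem_of_mem_normalizer (YU_norm hd) hy.1.1, by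
      rw [← centralizer_zpowers_eq_sing]
      exact conj_mem_of_mem_normalizer (normalizer_le_normalizer_centralizer _ dn)
        (centralizer_zpowers_eq_sing σ ▸ hy.1.2)⟩, S.conj_mem dz hy.2⟩
    have i : ∀ c₁ c₂ c₃ c₄ : ZMod 2, c₁ • S.π s + c₂ • S.π t + c₃ • S.π y +
        c₄ • S.π (d * y * d⁻¹) = 0 → c₁ = 0 ∧ c₂ = 0 ∧ c₃ = 0 ∧ c₄ = 0 := fun c₁ c₂ c₃ c₄ e => by
      rcases z2_cases c₃ with rfl | rfl <;> rcases z2_cases c₄ with rfl | rfl <;>
        simp only [zero_smul, one_smul, add_zero] at e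
      · have := D.indep c₁ 0 c₂ 0 (by simpa using e)
        tauto
      · exact (n (by simpa using k2 _ hy' _ _ e)).elim
      · exact (n (k2 _ hy _ _ e)).elim
      · rw [add_assoc, ← S.π_mul _ hy.2 _ hy'.2] at e
        have e3 := congrArg S.π (k2 _ (mul_mem hy hy') _ _ e)
        rw [S.π_mul _ hy.2 _ hy'.2, S.π_one, add_eq_zero', ← S.ρ_π _ dz _ hy.2] at e3
        exact (n (k2 y hy 0 0 (by simp [D.fpf dK e1 e2 e3.symm]))).elim
    have a1 := (D.hs.mem_E S hy.2).2 (k1 y hy).1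
    have a2 := (D.hs.mem_E S hy'.2).2 (k1 _ hy').1
    obtain ⟨c₁, c₂, c₃, c₄, e⟩ := (span_four ((D.ht.mem_E S D.hs.mem).2 D.nst.zs) (D.ht.s_mem_E S)
      ((D.ht.mem_E S hy.2).2 (k1 y hy).2) ((D.ht.mem_E S hy'.2).2 (k1 _ hy').2) i).2
      (D.H.t1 S D.ht D.hV).dimE.le _ (D.H.ρs_mem S D.ht D.hV)
    rw [e]
    exact add_mem (add_mem (add_mem (Submodule.smul_mem _ _ (D.hs.s_mem_E S))
      (Submodule.smul_mem _ _ ((D.hs.mem_E S D.ht.mem).2 D.ts))) (Submodule.smul_mem _ _ a1))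
      (Submodule.smul_mem _ _ a2)
  have w := wielandt21 s7 d3 (fun e => D.nst.ne (by rw [← e1, e]; simp)) dn (fun e => D.nst.ne (by
    rw [← e1, ← s1, show d * (σ * z * σ⁻¹) * d⁻¹ = d * σ * z * (d * σ)⁻¹ by group, e,
      show σ * d * z * (σ * d)⁻¹ = σ * (d * z * d⁻¹) * σ⁻¹ by group, e0])) hY (YU_norm hσ) (YU_norm hd)
  have c1 := Φ.card_eq cz
  have c2 := Φ.card_eq (inf_le_left.trans cz : YU U ⊓ centralizer ({σ} : Set G) ≤ _)
  rw [hO, card_bot, one_mul] at c2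
  have c3 : Nat.card (Φ.im (YU U ⊓ centralizer ({σ} : Set G))) ≤ Nat.card (Φ.im (YU U)) :=
    card_le_of_le fun p hp => by
      obtain ⟨g, hg, k⟩ := Φ.mem_im.1 hp
      exact Φ.mem_im.2 ⟨g, hg.1, k⟩
  have c4 : 2 ^ 7 ≤ Nat.card ↥(YU U ⊓ qOf z) := D.card_Q
  have c5 : 0 < Nat.card (Φ.im (YU U)) := Nat.card_pos
  have c6 := Nat.pow_le_pow_left hN 3
  have c7 := Nat.mul_le_mul c6 (c2.le.trans c3)
  have c8 := Nat.mul_le_mul_right (Nat.card (Φ.im (YU U))) c4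
  omega

end D36

theorem H36.not_simple {z ζ : G} {Φ : Fm z (Perm (Fin 3) × Perm (Fin 6))} (H : H36 Φ ζ)
    (h : PreLX (qOf z) z) (hc : Nat.card (qOf z) = 2 ^ 9) : ¬ IsSimpleGroup G := fun _ => by
  have hz : z ∉ center G := fun k => by
    have e : centralizer ({z} : Set G) = ⊤ := centralizer_eq_top_iff_subset.2 (by simpa using k)
    have : (qOf z).Normal := by rw [← normalizer_eq_top_iff, h.normalizer_eq, e]
    rcases this.eq_bot_or_eq_top with c | c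
    · exact h.ne_one (by simpa [c] using h.mem)
    · have := Φ.of_mem (c ▸ mem_top ζ)
      rw [H.eq] at this
      exact s3_facts.2.1 (congrArg Prod.fst this)
  have nd : ¬ 2 ^ (9 + 6) ∣ Nat.card G := Φ.not_dvd h hc (by
    rw [Nat.card_prod, Nat.card_perm, Nat.card_perm, Nat.card_fin, Nat.card_fin]; decide)
  rcases trichotomy h hc with k | ⟨t, k⟩ | ⟨s, k⟩
  · exact hz (Block.Princ.zstar_center k (oddCore_eq_bot_of_isSimpleGroup h.ord))
  · have hS : Sm G := sm_of_not_dvd fun c => nd ((pow_dvd_pow 2 (by decide)).trans c)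
    have u := k.isU hS
    have e : normalClosure ({z} : Set G) = ⊤ :=
      (normalClosure_normal.eq_bot_or_eq_top).resolve_left fun c =>
        h.ne_one (by simpa [c] using mem_nc z)
    have h14 : 2 ^ 14 ∣ Nat.card G := by
      obtain ⟨n, hn⟩ := u.isPGroup_YY.exists_card_eq
      have := u.card_YY
      rw [hn, Nat.pow_le_pow_iff_right one_lt_two] at this
      exact (pow_dvd_pow 2 this).trans (hn ▸ card_subgroup_dvd_card _)
    have t2 := two_part h14 nd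
    rcases k.fischer hS with ⟨n, ⟨f⟩⟩ | ⟨F, _, _, n, hF, ⟨f⟩⟩
    · have := t2.1 n ((topEquiv.symm.trans (MulEquiv.subgroupCongr e.symm)).trans f)
      have : n ≤ 3 ∨ 4 ≤ n := by omega
      rcases this with c | c <;> have := Nat.pow_le_pow_left c 2 <;> omega
    · have := t2.2 F n hF ((topEquiv.symm.trans (MulEquiv.subgroupCongr e.symm)).trans f)
      have : n ≤ 5 ∨ 6 ≤ n := by omega
      rcases this with c | c <;> have := Nat.mul_le_mul c (Nat.sub_le_sub_right c 1) <;> omega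
  · obtain ⟨t, c, D⟩ := H.exists_d36 (shOf h) k ((shOf h).finrank_eq hc)
    exact D.false

theorem exists_h36 {z : G} (Φ : Fm z (Perm (Fin 3) × Perm (Fin 6)))
    (h : ∀ p : Perm (Fin 3) × Perm (Fin 6), sign p.1 = 1 → sign p.2 = 1 →
      ∃ g ∈ centralizer ({z} : Set G), Φ.F g = p) : ∃ ζ, H36 Φ ζ := by
  obtain ⟨g, hg, e⟩ := h (ζ₀, 1) s3_facts.2.2.1 (map_one _)
  obtain ⟨m, h1, h2⟩ := Φ.exists_lift hg (n := 3) (by decide)
    (by rw [e]; exact Prod.ext s3_facts.1 (one_pow _))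
  exact ⟨_, fun p hp => h (1, p) (map_one _) hp, Subgroup.pow_mem _ hg m, h2, h1.trans e⟩

end Cfsg.Lib.LX
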