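import Cfsg.Agent.LX.Sh

/-!
# Weakly closed centre of a large extraspecial subgroup of width four, I

Commuting pairs of conjugates of `z`.
-/

set_option autoImplicit false

namespace Cfsg.Lib.LX

open Subgroup Cfsg.Lib.Local Cfsg.Lib.Solv Module
open scoped Pointwise commutatorElement

universe u

variable {G : Type u} [Group G]

theorem mem_C {a g : G} : g ∈ centralizer ({a} : Set G) ↔ g * a = a * g :=
  mem_centralizer_singleton_iff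

theorem mem_qOf_conj {g x a : G} (h : a ∈ qOf x) : g * a * g⁻¹ ∈ qOf (g * x * g⁻¹) := by
  rw [qOf_conj]
  exact smul_mem_pointwise_smul _ _ _ h

theorem mem_qOf_conj_iff {g x a : G} : g * a * g⁻¹ ∈ qOf (g * x * g⁻¹) ↔ a ∈ qOf x :=
  ⟨fun h => by simpa [mul_assoc] using mem_qOf_conj (g := g⁻¹) h, mem_qOf_conj⟩

theorem isConj_conj (g x : G) : IsConj x (g * x * g⁻¹) := isConj_iff.2 ⟨g, rfl⟩

theorem card_qOf_conj {z u : G} (hu : IsConj z u) : Nat.card (qOf u) = Nat.card (qOf z) := by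
  obtain ⟨g, rfl⟩ := isConj_iff.1 hu
  rw [qOf_conj]
  exact (Nat.card_congr (equivSMul _ _).toEquiv).symm

/-- `z` is weakly closed in the large extraspecial subgroup of order `2 ^ 9` of its
centralizer. -/
structure WC (z : G) : Prop where
  pre : PreLX (qOf z) z
  card : Nat.card (qOf z) = 2 ^ 9
  wc : ∀ u, IsConj z u → u ∈ qOf z → u = z

theorem WC.conj {z u : G} (h : WC z) (hu : IsConj z u) : WC u where
  pre := h.pre.qOf_of_conj (isConj_iff.1 hu)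
  card := by rw [card_qOf_conj hu, h.card]
  wc := fun w hw hm => by
    obtain ⟨g, rfl⟩ := isConj_iff.1 hu
    have := h.wc (g⁻¹ * w * g⁻¹⁻¹) ((hu.trans hw).trans (isConj_conj _ _))
      (by simpa [mul_assoc] using mem_qOf_conj (g := g⁻¹) hm)
    rw [← this]; group

/-- A pair of distinct commuting conjugates. -/
structure Pr (z t : G) : Prop where
  wz : WC z
  cj : IsConj z t
  ne : t ≠ z
  comm : t * z = z * t

/-- `t` is conjugate to `z t` under the extraspecial group. -/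
def Sw (z t : G) : Prop := ∃ x ∈ qOf z, x * t * x⁻¹ = z * t

/-- The unitary type of pair. -/
structure IsU (z t : G) : Prop where
  pr : Pr z t
  ex : ∃ e₁ e₂, e₁ ∈ qOf z ∧ e₁ ∈ qOf t ∧ e₂ ∈ qOf z ∧ e₂ ∈ qOf t ∧ e₁ ≠ 1 ∧ e₂ ≠ 1 ∧ e₁ ≠ e₂
  rk : ∀ x ∈ qOf z, ∃ e ∈ qOf z, e ∈ qOf t ∧ (⁅t, x⁆ = e ∨ ⁅t, x⁆ = e * z)

namespace Pr

variable {z t : G} {V : Type*} [AddCommGroup V] [Module (ZMod 2) V]

theorem wt (h : Pr z t) : WC t := h.wz.conj h.cj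

theorem symm (h : Pr z t) : Pr t z := ⟨h.wt, h.cj.symm, h.ne.symm, h.comm.symm⟩

theorem conj (h : Pr z t) (g : G) : Pr (g * z * g⁻¹) (g * t * g⁻¹) :=
  ⟨h.wz.conj (isConj_conj _ _), ((isConj_conj g z).symm.trans h.cj).trans (isConj_conj _ _),
    fun e => h.ne (by simpa using e), by rw [conj_mul, conj_mul, h.comm]⟩

theorem not_mem (h : Pr z t) : t ∉ qOf z := fun e => h.ne (h.wz.wc t h.cj e)

theorem memH (h : Pr z t) : t ∈ centralizer ({z} : Set G) := mem_C.2 h.comm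

theorem tt (h : Pr z t) : t * t = 1 := h.wt.pre.mul_self

theorem zz (h : Pr z t) : z * z = 1 := h.wz.pre.mul_self

theorem t_inv (h : Pr z t) : t⁻¹ = t := h.wt.pre.inv_eq

theorem tt_mem (h : Pr z t) : t * t ∈ qOf z := by rw [h.tt]; exact one_mem _

theorem E_comm (h : Pr z t) {e a : G} (he : e ∈ qOf z) (he' : e ∈ qOf t) (ha : a ∈ qOf z)
    (hat : a * t = t * a) : a * e = e * a := by
  refine (h.wz.pre.comm_or ha he).resolve_right fun c => h.symm.not_mem ?_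
  have := conj_mem_of_mem_normalizer (h.wt.pre.norm (mem_C.2 hat)) he'
  rw [c] at this
  simpa using mul_mem this (inv_mem he')

theorem E_sq (h : Pr z t) {e : G} (he : e ∈ qOf z) (he' : e ∈ qOf t) : e * e = 1 :=
  (h.wz.pre.mem_iff.1 (h.wz.pre.sq_mem e he)).resolve_right fun c =>
    h.symm.not_mem (c ▸ mul_mem he' he')

theorem E_ne_z (h : Pr z t) {e : G} (he' : e ∈ qOf t) : e ≠ z := fun c => h.symm.not_mem (c ▸ he')

theorem AB (h : Pr z t) {a b : G} (ha : a ∈ qOf z) (hat : a * t = t * a) (hb : b ∈ qOf t)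
    (hbz : b * z = z * b) : ⁅b, a⁆ ∈ qOf z ∧ ⁅b, a⁆ ∈ qOf t := by
  refine ⟨mul_mem (conj_mem_of_mem_normalizer (h.wz.pre.norm (mem_C.2 hbz)) ha) (inv_mem ha), ?_⟩
  have := mul_mem hb (conj_mem_of_mem_normalizer (h.wt.pre.norm (mem_C.2 hat)) (inv_mem hb))
  rwa [show b * (a * b⁻¹ * a⁻¹) = ⁅b, a⁆ by rw [commutatorElement_def]; group] at this

theorem conj_eq (h : Pr z t) (x : G) : x * t * x⁻¹ = t * ⁅t, x⁆ := by
  rw [commutatorElement_def, h.t_inv, ← mul_assoc, ← mul_assoc, ← mul_assoc, h.tt, one_mul]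

theorem J_inter (h : Pr z t) {x : G} (hP : ⁅t, x⁆ ∈ qOf t) : t * x = x * t := by
  have := h.wt.wc (x * t * x⁻¹) (isConj_conj _ _) (by
    rw [h.conj_eq]; exact mul_mem h.wt.pre.mem hP)
  rw [← mul_inv_eq_iff_eq_mul.1 this]

theorem comm_of_N (h : Pr z t) (S : Sh (qOf z) z V) (hs : ¬ Sw z t) {x : G} (hx : x ∈ qOf z)
    (h0 : S.N t (S.π x) = 0) : x * t = t * x := by
  rw [S.N_π h.memH hx, S.π_eq_zero' (S.comm_mem h.memH hx)] at h0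
  rcases h0 with h0 | h0
  · exact (commutatorElement_eq_one_iff_mul_comm.1 h0).symm
  · exact (hs ⟨x, hx, by rw [h.conj_eq, h0, h.comm]⟩).elim

theorem t_conj_comm (h : Pr z t) (x : G) : t * ⁅t, x⁆ * t = ⁅t, x⁆⁻¹ := by
  rw [← h.conj_eq, commutatorElement_inv, commutatorElement_def, h.t_inv]

theorem typeA (h : Pr z t) (S : Sh (qOf z) z V) (hs : ¬ Sw z t) (v : V) :
    S.q (S.N t v) = 0 := by
  obtain ⟨x, hx, rfl⟩ := S.π_surj v
  have hj := S.comm_mem h.memH hx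
  have c := h.comm_of_N S hs hj (by rw [← S.N_π h.memH hx]; exact S.N_N h.memH h.tt_mem _)
  rw [S.N_π h.memH hx, S.q_π _ hj]
  have := h.t_conj_comm x
  rw [← c, mul_assoc, h.tt, mul_one] at this
  exact mul_eq_one_iff_eq_inv.2 this

theorem typeA' (h : Pr z t) (S : Sh (qOf z) z V) (hs : ¬ Sw z t) (v : V) :
    S.b v (S.N t v) = 0 := by rw [← S.q_N h.memH, h.typeA S hs]

theorem b_A_E (h : Pr z t) (S : Sh (qOf z) z V) {e a : G} (he : e ∈ qOf z) (he' : e ∈ qOf t)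
    (ha : a ∈ qOf z) (hat : a * t = t * a) : S.b (S.π a) (S.π e) = 0 :=
  (S.b_π _ ha _ he).2 (h.E_comm he he' ha hat)

theorem N_t_E (h : Pr z t) (S : Sh (qOf z) z V) {e : G} (he : e ∈ qOf z) (he' : e ∈ qOf t) :
    S.N t (S.π e) = 0 := S.N_π_of_comm h.memH he (h.wt.pre.central e he').symm

theorem N_B_E (h : Pr z t) (S : Sh (qOf z) z V) {e b : G} (he : e ∈ qOf z) (he' : e ∈ qOf t)
    (hb : b ∈ qOf t) (hbz : b * z = z * b) : S.N b (S.π e) = 0 :=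
  S.N_π_of_comm (mem_C.2 hbz) he (h.symm.E_comm he' he hb hbz)

theorem N_B_A (h : Pr z t) (S : Sh (qOf z) z V) {a b : G} (ha : a ∈ qOf z) (hat : a * t = t * a)
    (hb : b ∈ qOf t) (hbz : b * z = z * b) :
    ∃ e ∈ qOf z, e ∈ qOf t ∧ S.N b (S.π a) = S.π e :=
  ⟨_, (h.AB ha hat hb hbz).1, (h.AB ha hat hb hbz).2, S.N_π (mem_C.2 hbz) ha⟩

theorem inv_comm {b z : G} (hbz : b * z = z * b) : b⁻¹ * z = z * b⁻¹ :=
  (Commute.inv_left hbz).eq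

variable [Finite V]

theorem exists_x (h : Pr z t) (S : Sh (qOf z) z V) (hs : ¬ Sw z t) {e : G} (he : e ∈ qOf z)
    (he' : e ∈ qOf t) (h1 : e ≠ 1) : ∃ x ∈ qOf z, ⁅t, x⁆ = e * z := by
  obtain ⟨u, hu⟩ := S.exists_N_eq h.memH h.tt_mem (v := S.π e) fun u hu => by
    obtain ⟨a, ha, rfl⟩ := S.π_surj u
    exact h.b_A_E S he he' ha (h.comm_of_N S hs ha hu)
  obtain ⟨x, hx, rfl⟩ := S.π_surj u
  rw [S.N_π h.memH hx, eq_comm, S.π_eq_iff he (S.comm_mem h.memH hx)] at hu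
  refine ⟨x, hx, hu.resolve_left fun c => h1 ?_⟩
  rw [← c, commutatorElement_eq_one_iff_mul_comm.2 (h.J_inter (c ▸ he'))]

omit [Finite V] in
theorem N_of_x (h : Pr z t) (S : Sh (qOf z) z V) {e x : G} (he : e ∈ qOf z) (hx : x ∈ qOf z)
    (c : ⁅t, x⁆ = e * z) : S.N t (S.π x) = S.π e := by rw [S.N_π h.memH hx, c, S.π_mul_z he]

theorem b_x (h : Pr z t) (S : Sh (qOf z) z V) (hs : ¬ Sw z t) {e₁ e₂ x : G} (h₁ : e₁ ∈ qOf z)
    (h₁' : e₁ ∈ qOf t) (h₂ : e₂ ∈ qOf z) (h₂' : e₂ ∈ qOf t) (hne : e₂ ≠ 1) (hne' : e₂ ≠ e₁)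
    (hx : x ∈ qOf z) (c : ⁅t, x⁆ = e₁ * z) : S.b (S.π x) (S.π e₂) = 1 := by
  obtain ⟨y, hy, d⟩ := h.exists_x S hs h₂ h₂' hne
  rw [← z2_ne_zero, Ne, S.b_π _ hx _ h₂]
  intro hc
  have e : ⁅t, x * y⁆ = e₁ * e₂ := by
    have : ⁅t, x * y⁆ = ⁅t, x⁆ * (x * ⁅t, y⁆ * x⁻¹) := by simp only [commutatorElement_def]; group
    rw [this, c, d, ← mul_assoc x, hc, mul_assoc e₂, h.wz.pre.central x hx, ← mul_assoc e₂,
      mul_inv_cancel_right, mul_assoc, ← mul_assoc z, ← h.wz.pre.central e₂ h₂, mul_assoc,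
      h.zz, mul_one]
  have := commutatorElement_eq_one_iff_mul_comm.2 (h.J_inter (e ▸ mul_mem h₁' h₂'))
  rw [e] at this
  exact hne' (by rw [← inv_eq_of_mul_eq_one_right this,
    inv_eq_of_mul_eq_one_right (h.E_sq h₁ h₁')])

theorem E_four (h : Pr z t) (S : Sh (qOf z) z V) (hs : ¬ Sw z t) {e₁ e₂ : G} (h₁ : e₁ ∈ qOf z)
    (h₁' : e₁ ∈ qOf t) (h₂ : e₂ ∈ qOf z) (h₂' : e₂ ∈ qOf t) (n₁ : e₁ ≠ 1) (n₂ : e₂ ≠ 1)
    (n : e₁ ≠ e₂) {e : G} (he : e ∈ qOf z) (he' : e ∈ qOf t) :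
    e = 1 ∨ e = e₁ ∨ e = e₂ ∨ e = e₁ * e₂ := by
  obtain ⟨x, hx, c⟩ := h.exists_x S hs h₁ h₁' n₁
  by_contra! hc
  have a := h.b_x S hs h₁ h₁' h₂ h₂' n₂ n.symm hx c
  have b := h.b_x S hs h₁ h₁' he he' hc.1 hc.2.1 hx c
  have s₂ := h.E_sq h₂ h₂'
  have d := h.b_x S hs h₁ h₁' (mul_mem he h₂) (mul_mem he' h₂')
    (fun r => hc.2.2.1 (by rw [eq_inv_of_mul_eq_one_left r, inv_eq_of_mul_eq_one_right s₂]))
    (fun r => hc.2.2.2 (by rw [← r, mul_assoc, s₂, mul_one])) hx c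
  rw [S.π_mul _ he _ h₂, map_add, a, b] at d
  exact absurd d (by decide)

end Pr

section W1

variable [Finite G] {z t : G}


omit [Finite G] in
theorem Pr.comm_eq (h : Pr z t) {b b' : G} (hb : b ∈ qOf t) (hb' : b' ∈ qOf t)
    (hn : b * b' ≠ b' * b) : ⁅b, b'⁆ = t :=
  (h.wt.pre.mem_iff.1 (h.wt.pre.commutator_mem hb hb')).resolve_left
    fun c => hn (commutatorElement_eq_one_iff_mul_comm.1 c)

theorem Pr.isU_of_B (h : Pr z t) (hs : ¬ Sw z t) {b b' : G} (hb : b ∈ qOf t) (hbz : b * z = z * b)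
    (hb' : b' ∈ qOf t) (hbz' : b' * z = z * b') (hn : b * b' ≠ b' * b) : IsU z t := by
  let S := shOf h.wz.pre
  have ht := h.memH
  have hc := h.comm_eq hb hb' hn
  -- the subspace spanned by `E`
  set E := S.img (qOf z ⊓ qOf t) with hE
  have mE : ∀ {v}, v ∈ E ↔ ∃ e ∈ qOf z, e ∈ qOf t ∧ S.π e = v :=
    ⟨fun ⟨e, he, _, r⟩ => ⟨e, he.1, he.2, r⟩, fun ⟨e, he, he', r⟩ => ⟨e, ⟨he, he'⟩, he, r⟩⟩
  have f1 : ∀ β ∈ qOf t, β * z = z * β → ∀ v, S.N t v = 0 → S.N β v ∈ E := fun β hβ hβz v hv => by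
    obtain ⟨a, ha, rfl⟩ := S.π_surj v
    obtain ⟨e, he, he', r⟩ := h.N_B_A S ha (h.comm_of_N S hs ha hv) hβ hβz
    exact mE.2 ⟨e, he, he', r.symm⟩
  have f2 : ∀ β ∈ qOf t, β * z = z * β → ∀ v ∈ E, S.N β v = 0 := fun β hβ hβz v hv => by
    obtain ⟨e, he, he', rfl⟩ := mE.1 hv
    exact h.N_B_E S he he' hβ hβz
  have f3 : ∀ β ∈ qOf t, β * z = z * β → ∀ v ∈ S.perp E, ∃ u, S.N t u = S.N β v :=
    fun β hβ hβz v hv => S.exists_N_eq ht h.tt_mem fun u hu => by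
      rw [S.b_comm, S.b_N (mem_C.2 hβz), S.b_comm]
      exact hv _ (f1 _ (inv_mem hβ) (Pr.inv_comm hβz) u hu)
  have f3' : ∀ β ∈ qOf t, β * z = z * β → ∀ v ∈ S.perp E, S.N t (S.N β v) = 0 :=
    fun β hβ hβz v hv => by
      obtain ⟨u, hu⟩ := f3 β hβ hβz v hv
      rw [← hu, S.N_N ht h.tt_mem]
  have f4 : ∀ β ∈ qOf t, β * z = z * β → ∀ v, S.N β v ∈ S.perp E := fun β hβ hβz v u hu => by
    rw [S.b_comm, S.b_N (mem_C.2 hβz), f2 _ (inv_mem hβ) (Pr.inv_comm hβz) u hu, map_zero]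
  have f5 : ∀ β ∈ qOf t, β * z = z * β → ∀ v ∈ S.perp E, S.ρ β v ∈ S.perp E :=
    fun β hβ hβz v hv => by rw [S.ρ_eq]; exact add_mem hv (f4 β hβ hβz v)
  have key : ∀ v ∈ S.perp E, ∃ w ∈ S.perp E, S.N t v = S.N b (S.N b' w) + S.N b' (S.N b w) :=
    fun v hv => by
      refine ⟨S.ρ b⁻¹ (S.ρ b'⁻¹ v), f5 _ (inv_mem hb) (Pr.inv_comm hbz) _
        (f5 _ (inv_mem hb') (Pr.inv_comm hbz') _ hv), ?_⟩
      rw [← S.N_commutator (mem_C.2 hbz) (mem_C.2 hbz'), hc, S.ρ_ρ_inv (mem_C.2 hbz),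
        S.ρ_ρ_inv (mem_C.2 hbz')]
  have f6 : ∀ v ∈ S.perp E, S.N t v ∈ E := fun v hv => by
    obtain ⟨w, hw, r⟩ := key v hv
    rw [r]
    exact add_mem (f1 b hb hbz _ (f3' b' hb' hbz' w hw)) (f1 b' hb' hbz' _ (f3' b hb hbz w hw))
  have fin : (∀ v ∈ S.perp E, S.N t v = 0) → ∀ v, S.N t v ∈ E := fun h0 v =>
    S.mem_of_perp fun u hu => by rw [← S.b_N' ht h.tt_mem, h0 u hu, map_zero, LinearMap.zero_apply]
  by_cases h2 : ∃ e₁ e₂, e₁ ∈ qOf z ∧ e₁ ∈ qOf t ∧ e₂ ∈ qOf z ∧ e₂ ∈ qOf t ∧ e₁ ≠ 1 ∧ e₂ ≠ 1 ∧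
      e₁ ≠ e₂
  · refine ⟨h, h2, fun x hx => ?_⟩
    obtain ⟨e₁, e₂, h₁, h₁', h₂, h₂', n₁, n₂, n⟩ := h2
    have h0 : ∀ v ∈ S.perp E, S.N t v = 0 := fun v hv => by
      obtain ⟨e, he, he', r⟩ := mE.1 (f6 v hv)
      by_contra hc
      have e1 : e ≠ 1 := fun c => hc (by rw [← r, c, S.π_one])
      obtain ⟨f, hf, hf', f1, fe⟩ : ∃ f ∈ qOf z, f ∈ qOf t ∧ f ≠ 1 ∧ e ≠ f := by
        by_cases c : e = e₁
        exacts [⟨e₂, h₂, h₂', n₂, c ▸ n⟩, ⟨e₁, h₁, h₁', n₁, c⟩]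
      obtain ⟨y, hy, d⟩ := h.exists_x S hs hf hf' f1
      have := h.b_x S hs hf hf' he he' e1 fe hy d
      rw [r, ← S.b_N' ht h.tt_mem, h.N_of_x S hf hy d, hv _ (mE.2 ⟨f, hf, hf', rfl⟩)] at this
      exact zero_ne_one this
    obtain ⟨e, he, he', r⟩ := mE.1 (fin h0 (S.π x))
    rw [S.N_π ht hx, S.π_eq_iff he (S.comm_mem ht hx)] at r
    exact ⟨e, he, he', r⟩
  · exfalso
    have uq : ∀ u ∈ E, ∀ v ∈ E, u ≠ 0 → v ≠ 0 → u = v := fun u hu v hv u0 v0 => by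
      obtain ⟨e, he, he', rfl⟩ := mE.1 hu
      obtain ⟨f, hf, hf', rfl⟩ := mE.1 hv
      by_contra c
      exact h2 ⟨e, f, he, he', hf, hf', fun r => u0 (by rw [r, S.π_one]),
        fun r => v0 (by rw [r, S.π_one]), fun r => c (by rw [r])⟩
    have g1 : ∀ β ∈ qOf t, β * z = z * β → ∀ v ∈ S.perp E, S.N β v ∈ E := fun β hβ hβz v hv => by
      by_contra hc
      obtain ⟨y, hy⟩ := f3 β hβ hβz v hv
      have v0 : S.N t v ≠ 0 := fun c => hc (f1 β hβ hβz v c)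
      have q1 := S.q_N (mem_C.2 hβz) v
      rw [← hy, h.typeA S hs, ← S.b_N' ht h.tt_mem] at q1
      refine hc (hy ▸ f6 y fun u hu => ?_)
      by_cases u0 : u = 0
      · rw [u0, map_zero, LinearMap.zero_apply]
      · rw [uq u hu _ (f6 v hv) u0 v0, ← q1]
    have h0 : ∀ v ∈ S.perp E, S.N t v = 0 := fun v hv => by
      obtain ⟨w, hw, r⟩ := key v hv
      rw [r, f2 b hb hbz _ (g1 b' hb' hbz' w hw), f2 b' hb' hbz' _ (g1 b hb hbz w hw), add_zero]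
    refine h.not_mem (S.mem_of_N ht fun v => h0 v fun u hu => ?_)
    by_cases u0 : u = 0
    · rw [u0, map_zero, LinearMap.zero_apply]
    by_cases v0 : S.N t v = 0
    · obtain ⟨a, ha, rfl⟩ := S.π_surj v
      obtain ⟨e, he, he', rfl⟩ := mE.1 hu
      rw [S.b_comm]
      exact h.b_A_E S he he' ha (h.comm_of_N S hs ha v0)
    · rw [uq u hu _ (fin h0 v) u0 v0, S.b_comm, h.typeA' S hs]

end W1

end Cfsg.Lib.LX
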